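import Mathlib
import Cfsg.Statements.S1405
import Cfsg.Statements.S1417
import Cfsg.Agent.S0033
import Cfsg.Agent.Lib.Helper75.BGUtil
import Cfsg.Agent.Lib.Helper67.BG.S1358Core
import Cfsg.Agent.Lib.Helper20.BG.S1408Core

/-!
BG campaign: core of S1429 (primes outside `σ(M) ∪ κ(M)`): hypotheses are the statements
S1405 and S1417 for the same group.
-/

set_option autoImplicit false

namespace Cfsg.Agent.Lib.Helper34.BG

open Cfsg

/-- Conjugation by an element normalizing `N`, as an endomorphism of `N`. -/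
def conjNormalizerHom {G : Type*} [Group G] (N : Subgroup G) (a : G)
    (ha : a ∈ Subgroup.normalizer (N : Set G)) : N →* N where
  toFun y := ⟨a * y * a⁻¹, (Subgroup.mem_normalizer_iff.mp ha y).mp y.2⟩
  map_one' := by ext; simp
  map_mul' x y := by ext; simp [mul_assoc]

theorem conjNormalizerHom_iterate {G : Type*} [Group G] (N : Subgroup G) (a : G)
    (ha : a ∈ Subgroup.normalizer (N : Set G)) (n : ℕ) (y : N) :
    (((⇑(conjNormalizerHom N a ha))^[n] y : N) : G) = a ^ n * y * (a ^ n)⁻¹ := by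
  induction n generalizing y with
  | zero => simp
  | succ n ih =>
    rw [Function.iterate_succ_apply, ih]
    simp only [conjNormalizerHom, MonoidHom.coe_mk, OneHom.coe_mk]
    rw [pow_succ]
    group

/-- Thompson's theorem in subgroup form: if `a` normalizes `N`, `a ^ p = 1` for a prime `p`, and
`a` commutes with no non-identity element of `N`, then `N` is nilpotent. -/
theorem isNilpotent_of_fpf_elt {G : Type*} [Group G] [Finite G] (N : Subgroup G) (a : G)
    (ha : a ∈ Subgroup.normalizer (N : Set G)) {p : ℕ} (hp : p.Prime) (hap : a ^ p = 1)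
    (hfpf : ∀ y ∈ N, a * y = y * a → y = 1) : Group.IsNilpotent N := by
  refine Cfsg.Agent.S0033.fpf_nilpotent_of_iterate (conjNormalizerHom N a ha) ?_ hp ?_
  · intro y hy
    have h1 : a * (y : G) * a⁻¹ = y := congrArg Subtype.val hy
    have h2 : a * (y : G) = y * a := by
      calc a * (y : G) = (a * (y : G) * a⁻¹) * a := by group
        _ = y * a := by rw [h1]
    have := hfpf y y.2 h2
    exact Subtype.ext this
  · funext y
    apply Subtype.ext
    rw [conjNormalizerHom_iterate, hap]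
    simp

theorem s1429_core {G : Type*} [Group G] [Finite G] (hG : Cfsg.IsMinSimpleOddOrder G)
    (h1405 : type_of% (@Cfsg.CfsgFrozen.S1405 G _ _ hG))
    (h1417 : type_of% (@Cfsg.CfsgFrozen.S1417 G _ _ hG))
    (M : Subgroup G) (hM : IsCoatom M)
    (p : ℕ) [Fact p.Prime] (hpM : p ∣ Nat.card M) (hp : p ∉ Cfsg.sigma M ∪ Cfsg.kappa M)
    (S : Sylow p M) :
    Nat.card ↥(Subgroup.closure {x : G | x ∈ (S : Subgroup M).map M.subtype ∧ x ^ p = 1}) ≤ p ^ 2 ∧
      Cfsg.sigmaCore M ⊓ Subgroup.centralizer ((Subgroup.closure {x : G | x ∈ (S : Subgroup M).map M.subtype ∧ x ^ p = 1} : Subgroup G) : Set G) = ⊥ ∧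
      Group.IsNilpotent (Cfsg.sigmaCore M) := by
  have hpp : p.Prime := Fact.out
  have hpσ : p ∉ Cfsg.sigma M := fun h => hp (Or.inl h)
  have hpκ : p ∉ Cfsg.kappa M := fun h => hp (Or.inr h)
  have hr2 : PRankLE p 2 M :=
    Cfsg.Agent.Lib.Helper67.BG.pRankLE_two_of_not_mem_sigma M (h1405 M hM).1
      (h1405 M hM).2.2.1 hpp hpσ
  by_cases hr1 : PRankLE p 1 M
  · -- rank one: Sylow subgroups cyclic, `p ∉ κ(M)` gives fixed-point-free action
    have hodd : Odd (Nat.card M) :=
      Odd.of_dvd_nat hG.1 (Subgroup.card_subgroup_dvd_card M)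
    have hp2 : p ≠ 2 := by
      rintro rfl
      exact (Nat.not_even_iff_odd.mpr hodd) (even_iff_two_dvd.mpr hpM)
    have hcyc : ∀ P : Sylow p M, IsCyclic ↥(P : Subgroup M) := fun P =>
      Cfsg.Agent.Lib.Helper75.BG.isCyclic_sylow_of_rank_one M M le_rfl p hp2 hr1 P
    -- a Sylow subgroup acting fixed-point-freely
    have hex : ∃ P0 : Sylow p M, ∀ x : M, x ∈ (P0 : Subgroup M) → x ≠ 1 →
        ∀ y ∈ sigmaCore M, y ≠ 1 → (x : G) * y ≠ y * x := by
      by_contra hcon
      push Not at hcon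
      apply hpκ
      refine ⟨hpp, hpM, hpσ, fun P => ⟨hcyc P, ?_⟩⟩
      obtain ⟨x, hx, hx1, y, hy, hy1, hxy⟩ := hcon P
      exact ⟨x, hx, hx1, y, hy, hy1, hxy⟩
    obtain ⟨P0, hP0⟩ := hex
    obtain ⟨g, hg⟩ := MulAction.exists_smul_eq M P0 S
    have hnorm := Cfsg.Agent.Lib.Helper67.BG.sigmaCore_normalizer M
    have hfpf : ∀ x : M, x ∈ (S : Subgroup M) → x ≠ 1 →
        ∀ y ∈ sigmaCore M, (x : G) * y = y * x → y = 1 := by
      intro x hx hx1 y hy hxy
      by_contra hy1
      have hx' : x ∈ ((g • P0 : Sylow p M) : Subgroup M) := by rw [hg]; exact hx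
      rw [Sylow.coe_subgroup_smul, Subgroup.mem_smul_pointwise_iff_exists] at hx'
      obtain ⟨x0, hx0, hx0x⟩ := hx'
      have hx0x' : g * x0 * g⁻¹ = x := by simpa [MulAut.smul_def] using hx0x
      have hx01 : x0 ≠ 1 := by
        rintro rfl
        apply hx1
        rw [← hx0x']; simp
      have hginv : ((g : G))⁻¹ ∈ Subgroup.normalizer (sigmaCore M : Set G) :=
        hnorm (M.inv_mem g.2)
      have hy0 : (g : G)⁻¹ * y * ((g : G)⁻¹)⁻¹ ∈ sigmaCore M :=
        (Subgroup.mem_normalizer_iff.mp hginv y).mp hy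
      have hy01 : (g : G)⁻¹ * y * ((g : G)⁻¹)⁻¹ ≠ 1 := by
        intro h
        apply hy1
        have : y = (g : G) * ((g : G)⁻¹ * y * ((g : G)⁻¹)⁻¹) * (g : G)⁻¹ := by group
        rw [this, h]; simp
      apply hP0 x0 hx0 hx01 _ hy0 hy01
      have hxG : (x : G) = (g : G) * (x0 : G) * (g : G)⁻¹ := by
        rw [← hx0x']; simp
      have h1 : (x0 : G) = (g : G)⁻¹ * (x : G) * (g : G) := by rw [hxG]; group
      rw [h1]
      have h2 : (g : G)⁻¹ * (x : G) * (g : G) * ((g : G)⁻¹ * y * ((g : G)⁻¹)⁻¹)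
          = (g : G)⁻¹ * ((x : G) * y) * (g : G) := by group
      have h3 : (g : G)⁻¹ * y * ((g : G)⁻¹)⁻¹ * ((g : G)⁻¹ * (x : G) * (g : G))
          = (g : G)⁻¹ * (y * (x : G)) * (g : G) := by group
      rw [h2, h3, hxy]
    set Sg : Subgroup G := (S : Subgroup M).map M.subtype with hSg
    set A : Subgroup G := Subgroup.closure {x : G | x ∈ Sg ∧ x ^ p = 1} with hA
    -- `Sg` is commutative
    haveI := hcyc S
    have hScomm : ∀ a ∈ Sg, ∀ b ∈ Sg, a * b = b * a := by
      rintro _ ⟨a, ha, rfl⟩ _ ⟨b, hb, rfl⟩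
      obtain ⟨c, hc⟩ := (IsCyclic.exists_generator (α := ↥(S : Subgroup M)))
      obtain ⟨m, hm⟩ := Subgroup.mem_zpowers_iff.mp (hc ⟨a, ha⟩)
      obtain ⟨n, hn⟩ := Subgroup.mem_zpowers_iff.mp (hc ⟨b, hb⟩)
      have h1 : (⟨a, ha⟩ : ↥(S : Subgroup M)) * ⟨b, hb⟩ = ⟨b, hb⟩ * ⟨a, ha⟩ := by
        rw [← hm, ← hn]
        exact (Commute.zpow_zpow (Commute.refl c) m n).eq
      have h2 := congrArg (fun z : ↥(S : Subgroup M) => ((z : M) : G)) h1
      simpa using h2
    have hAle : A ≤ Sg := (Subgroup.closure_le _).mpr (fun x hx => hx.1)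
    have hAp : ∀ a ∈ A, a ^ p = 1 := by
      intro a ha
      have : a ∈ Sg ∧ a ^ p = 1 := by
        refine Subgroup.closure_induction (p := fun x _ => x ∈ Sg ∧ x ^ p = 1)
          (fun x hx => hx) ⟨Sg.one_mem, one_pow _⟩ ?_ ?_ ha
        · intro x y _ _ hx hy
          refine ⟨Sg.mul_mem hx.1 hy.1, ?_⟩
          have hc : Commute x y := hScomm x hx.1 y hy.1
          rw [hc.mul_pow, hx.2, hy.2, one_mul]
        · intro x _ hx
          exact ⟨Sg.inv_mem hx.1, by rw [inv_pow, hx.2, inv_one]⟩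
      exact this.2
    -- an element of order `p` in `S`
    have hSdvd : p ∣ Nat.card ↥(S : Subgroup M) := S.dvd_card_of_dvd_card hpM
    obtain ⟨x, hx⟩ := exists_prime_orderOf_dvd_card' (G := ↥(S : Subgroup M)) p hSdvd
    have hx1 : (x : M) ≠ 1 := by
      intro h
      have : x = 1 := Subtype.ext h
      rw [this, orderOf_one] at hx
      exact hpp.one_lt.ne hx
    set a : G := ((x : M) : G) with ha
    have haS : a ∈ Sg := ⟨(x : M), x.2, rfl⟩
    have hap : a ^ p = 1 := by
      have h1 : x ^ p = 1 := by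
        have h0 := pow_orderOf_eq_one x
        rwa [hx] at h0
      have h2 := congrArg (fun z : ↥(S : Subgroup M) => ((z : M) : G)) h1
      simpa using h2
    have haA : a ∈ A := Subgroup.subset_closure ⟨haS, hap⟩
    have haM : a ∈ M := (x : M).2
    have hafpf : ∀ y ∈ sigmaCore M, a * y = y * a → y = 1 := fun y hy hay =>
      hfpf (x : M) x.2 hx1 y hy hay
    refine ⟨?_, ?_, ?_⟩
    · -- `A` is cyclic of exponent dividing `p`
      haveI hSgc : IsCyclic ↥Sg := by
        have hsurj : Function.Surjective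
            ((M.subtype.subgroupMap (S : Subgroup M)) : ↥(S : Subgroup M) →* ↥Sg) :=
          MonoidHom.subgroupMap_surjective _ _
        exact isCyclic_of_surjective _ hsurj
      haveI : IsCyclic ↥(A.subgroupOf Sg) := inferInstance
      haveI hAc : IsCyclic ↥A :=
        isCyclic_of_surjective (Subgroup.subgroupOfEquivOfLe hAle).toMonoidHom
          (Subgroup.subgroupOfEquivOfLe hAle).surjective
      have hexp : Monoid.exponent ↥A ∣ p := by
        apply Monoid.exponent_dvd_of_forall_pow_eq_one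
        intro b
        apply Subtype.ext
        simpa using hAp b b.2
      rw [IsCyclic.exponent_eq_card] at hexp
      calc Nat.card ↥A ≤ p := Nat.le_of_dvd hpp.pos hexp
        _ ≤ p ^ 2 := by nlinarith [hpp.one_lt]
    · rw [eq_bot_iff]
      intro y hy
      rw [Subgroup.mem_inf] at hy
      have hya : a * y = y * a := (Subgroup.mem_centralizer_iff.mp hy.2 a haA).symm ▸ rfl
      exact Subgroup.mem_bot.mpr (hafpf y hy.1 hya)
    · exact isNilpotent_of_fpf_elt (sigmaCore M) a (hnorm haM) hpp hap hafpf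
  · -- rank exactly two: `p ∈ τ₂(M)`
    have hτ2 : p ∈ tau2 M := ⟨hpp, hpσ, hr2, hr1⟩
    obtain ⟨A1, hA1M, hA1e, hA1c⟩ := Cfsg.Agent.Lib.Helper20.BG.exists_ea_sq M p hr2 hr1
    have hA1p : IsPGroup p (A1.subgroupOf M) := by
      intro y
      refine ⟨1, ?_⟩
      apply Subtype.ext
      apply Subtype.ext
      have := hA1e.2 ((y : M) : G) y.2
      simpa using this
    obtain ⟨Q, hQ⟩ := hA1p.exists_le_sylow
    obtain ⟨g, hg⟩ := MulAction.exists_smul_eq M Q S
    set A2 : Subgroup G := A1.map (MulAut.conj (g : G)).toMonoidHom with hA2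
    have hA2M : A2 ≤ M := by
      rintro _ ⟨b, hb, rfl⟩
      simp only [MulEquiv.toMonoidHom_eq_coe, MonoidHom.coe_coe, MulAut.conj_apply]
      exact M.mul_mem (M.mul_mem g.2 (hA1M hb)) (M.inv_mem g.2)
    have hA2e : IsElementaryAbelian p A2 := by
      constructor
      · constructor
        constructor
        rintro ⟨_, ⟨b, hb, rfl⟩⟩ ⟨_, ⟨c, hc, rfl⟩⟩
        apply Subtype.ext
        have h1 := (isMulCommutative_iff.mp hA1e.1) ⟨b, hb⟩ ⟨c, hc⟩
        have h2 : b * c = c * b := congrArg Subtype.val h1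
        simp only [MulEquiv.toMonoidHom_eq_coe, MonoidHom.coe_coe, Subgroup.coe_mul]
        rw [← map_mul, ← map_mul, h2]
      · rintro _ ⟨b, hb, rfl⟩
        rw [← map_pow, hA1e.2 b hb, map_one]
    have hA2c : Nat.card A2 = p ^ 2 := by
      rw [hA2, Subgroup.card_map_of_injective (MulAut.conj (g : G)).injective, hA1c]
    have hA2S : A2 ≤ (S : Subgroup M).map M.subtype := by
      rintro _ ⟨b, hb, rfl⟩
      have hbQ : (⟨b, hA1M hb⟩ : M) ∈ (Q : Subgroup M) := hQ (by
        rw [Subgroup.mem_subgroupOf]; exact hb)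
      have hS : g * ⟨b, hA1M hb⟩ * g⁻¹ ∈ ((g • Q : Sylow p M) : Subgroup M) := by
        rw [Sylow.coe_subgroup_smul, Subgroup.mem_smul_pointwise_iff_exists]
        exact ⟨⟨b, hA1M hb⟩, hbQ, by simp [MulAut.smul_def]⟩
      rw [hg] at hS
      exact ⟨g * ⟨b, hA1M hb⟩ * g⁻¹, hS, by simp⟩
    obtain ⟨hnil, hb, -, hd, -, -⟩ := h1417 M hM p hτ2 A2 ⟨hA2M, hA2e, hA2c⟩
    have hiff := ((hb S).2 hA2S).1
    have hset : {x : G | x ∈ (S : Subgroup M).map M.subtype ∧ x ^ p = 1} = (A2 : Set G) := by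
      ext x
      constructor
      · rintro ⟨hx, hxp⟩
        exact (hiff x hx).mp hxp
      · intro hx
        exact ⟨hA2S hx, (hiff x (hA2S hx)).mpr hx⟩
    rw [hset, Subgroup.closure_eq]
    exact ⟨hA2c.le, hd, hnil⟩

end Cfsg.Agent.Lib.Helper34.BG
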