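import Mathlib
import Cfsg.Statements.S1350
import Cfsg.Statements.S1403
import Cfsg.Statements.S1404
import Cfsg.Statements.S1405
import Cfsg.Statements.S1414
import Cfsg.Statements.S1415
import Cfsg.Statements.S1416
import Cfsg.Statements.S1417
import Cfsg.Statements.S1422
import Cfsg.Statements.S1423
import Cfsg.Statements.S1424
import Cfsg.Statements.S1426
import Cfsg.Statements.S1427
import Cfsg.Statements.S1428
import Cfsg.Agent.Lib.Helper34.BG.Tau13A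
import Cfsg.Agent.Lib.Helper97.BG.Tau3Prime
import Cfsg.Agent.Lib.Helper97.BG.Tau3Split
import Cfsg.Agent.Lib.Helper85.BG.Tau1Semiprime
import Cfsg.Agent.Lib.Helper13.BG.LemX
import Cfsg.Agent.Lib.Helper13.BG.Tools
import Cfsg.Agent.Lib.Helper67.BG.HallUtil
import Cfsg.Agent.Lib.Helper74.BG.Tools
import Cfsg.Agent.Lib.Helper79.BG.Util2
import Cfsg.Agent.Lib.Helper76.BG.S1420Core

/-!
# B&G Lemma 13.10(b)

`p3`: if a subgroup `P` of prime order of a complement `E` of `M_σ` does not centralize the Hall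
`τ₃(M)`-subgroup `E₃` of `E`, then `C_{M_σ}(E₃) = 1`.

The two inputs from the "asymmetry" part of B&G §13 (Lemmas 13.4/13.5 and 13.8) are taken as the
explicit hypotheses `L4Prop G` and `AsymProp G`.
-/

set_option autoImplicit false
set_option linter.unusedSectionVars false
set_option linter.unusedVariables false
set_option linter.style.haveILetI false

namespace Cfsg.Agent.Lib.Helper34.BG

open Cfsg Cfsg.Agent.Lib.Helper46 Cfsg.Agent.Lib.Helper35.BG
open scoped commutatorElement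

universe u

variable {G : Type u} [Group G]

/-- B&G 13.4/13.5 (the two consequences used here): for `p ∈ τ₁(M)`, `P ≤ M` of order `p` and a
`P`-invariant Sylow `q`-subgroup `Q` of `M` with `C_Q(P) = 1` and `N(Q) ≤ M* ≠ M`:
`M = M_α N_M(Q)` and `C_{M_α}(QP) = 1`. -/
def L4Prop (G : Type u) [Group G] : Prop :=
  ∀ M Ms : Subgroup G, IsCoatom M → IsCoatom Ms → Ms ≠ M → ∀ p : ℕ, p ∈ tau1 M →
    ∀ P : Subgroup G, P ≤ M → Nat.card P = p → ∀ (q : ℕ) (Q : Subgroup G), q.Prime →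
    IsSylowIn q Q M → Q ≠ ⊥ → P ≤ Subgroup.normalizer (Q : Set G) →
    Q ⊓ Subgroup.centralizer (P : Set G) = ⊥ → Subgroup.normalizer (Q : Set G) ≤ Ms →
    (∀ m ∈ M, ∃ a ∈ alphaCore M, ∃ n ∈ M ⊓ Subgroup.normalizer (Q : Set G), m = a * n) ∧
      alphaCore M ⊓ Subgroup.centralizer (Q : Set G) ⊓ Subgroup.centralizer (P : Set G) = ⊥

/-- B&G 13.8 (the asymmetry lemma). -/
def AsymProp (G : Type u) [Group G] : Prop :=
  ∀ M Ms : Subgroup G, IsCoatom M → IsCoatom Ms →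
    (∀ g : G, Ms ≠ M.map (MulAut.conj g).toMonoidHom) → ∀ p : ℕ, p ∈ tau1 M → p ∈ tau1 Ms →
    ∀ P : Subgroup G, P ≤ M → P ≤ Ms → Nat.card P = p →
    ∀ (q : ℕ) (Q : Subgroup G), q.Prime → IsSylowIn q Q M → Q ≠ ⊥ → Q ≤ Ms →
    Subgroup.normalizer (Q : Set G) ≤ Ms → P ≤ Subgroup.normalizer (Q : Set G) →
    Q ⊓ Subgroup.centralizer (P : Set G) = ⊥ →
    ∀ (qs : ℕ) (Qs : Subgroup G), qs.Prime → IsSylowIn qs Qs Ms → Qs ≠ ⊥ → Qs ≤ M →
    Subgroup.normalizer (Qs : Set G) ≤ M → P ≤ Subgroup.normalizer (Qs : Set G) →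
    Qs ⊓ Subgroup.centralizer (P : Set G) = ⊥ → False

/-! ### Basic facts -/

/-- A `q`-subgroup of `M` with `q ∈ σ(M)` lies in `M_σ`. -/
theorem le_sigmaCore_of_isPGroup [Finite G] {M : Subgroup G}
    (hHall : IsPiHallOf (sigma M) (sigmaCore M) M) {q : ℕ} [Fact q.Prime] (hq : q ∈ sigma M)
    {Z : Subgroup G} (hZ : IsPGroup q Z) (hZM : Z ≤ M) : Z ≤ sigmaCore M :=
  Cfsg.Agent.Lib.Helper74.BG.le_of_isPiHallOf_of_normal hHall
    (Cfsg.Agent.Lib.Helper67.BG.sigmaCore_normalizer M) hZM (fun p hp hd => by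
      rw [Cfsg.Agent.Lib.Helper67.BG.prime_eq_of_dvd_card_isPGroup hZ hp hd]; exact hq)

/-- A nontrivial `q`-subgroup of `M_σ` has `q ∈ σ(M)`. -/
theorem mem_sigma_of_le_sigmaCore [Finite G] {M : Subgroup G} {q : ℕ} [Fact q.Prime]
    {Z : Subgroup G} (hZ : IsPGroup q Z) (hZ1 : Z ≠ ⊥) (hZσ : Z ≤ sigmaCore M) : q ∈ sigma M :=
  Cfsg.Agent.Lib.Helper67.BG.sigmaCore_isPi M q Fact.out
    ((Cfsg.Agent.Lib.Helper67.BG.dvd_card_of_isPGroup_ne_bot hZ hZ1).trans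
      (Subgroup.card_dvd_of_le hZσ))

/-- A `t`-element different from `1` has order divisible by `t`. -/
theorem dvd_orderOf_of_isPGroup {t : ℕ} [Fact t.Prime] {S : Subgroup G} (hSt : IsPGroup t S)
    {c : G} (hc : c ∈ S) (hc1 : c ≠ 1) : t ∣ orderOf c := by
  obtain ⟨k, hk⟩ := hSt ⟨c, hc⟩
  have hk' : c ^ t ^ k = 1 := by
    have := congrArg Subtype.val hk
    simpa using this
  obtain ⟨i, -, hi2⟩ := (Nat.dvd_prime_pow (Fact.out : t.Prime)).mp (orderOf_dvd_of_pow_eq_one hk')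
  rcases i with _ | i
  · rw [pow_zero] at hi2; exact absurd (orderOf_eq_one_iff.mp hi2) hc1
  · rw [hi2]; exact dvd_pow_self t (Nat.succ_ne_zero i)

/-- `C_{M_σ}(X) = C_{M_σ}(E₃)` for every nontrivial `X ≤ E₃`. -/
theorem inf_centralizer_eq_D3 [Finite G] (hG : IsMinSimpleOddOrder G)
    (h1403 : type_of% (@Cfsg.CfsgFrozen.S1403 G _ _ hG))
    (h1404 : type_of% (@Cfsg.CfsgFrozen.S1404 G _ _ hG))
    (h1405 : type_of% (@Cfsg.CfsgFrozen.S1405 G _ _ hG))
    (h1414 : type_of% (@Cfsg.CfsgFrozen.S1414 G _ _ hG))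
    (h1415 : type_of% (@Cfsg.CfsgFrozen.S1415 G _ _ hG))
    (h1416 : type_of% (@Cfsg.CfsgFrozen.S1416 G _ _ hG))
    (h1417 : type_of% (@Cfsg.CfsgFrozen.S1417 G _ _ hG))
    (h1423 : type_of% (@Cfsg.CfsgFrozen.S1423 G _ _ hG))
    {M E E₃ : Subgroup G} (hM : IsCoatom M) (hE : IsComplIn E (sigmaCore M) M)
    (hE₃ : IsPiHallOf (tau3 M) E₃ E) {X : Subgroup G} (hXE₃ : X ≤ E₃) (hX1 : X ≠ ⊥) :
    sigmaCore M ⊓ Subgroup.centralizer (X : Set G) =
      sigmaCore M ⊓ Subgroup.centralizer (E₃ : Set G) := by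
  apply le_antisymm
  · obtain ⟨x, hx1⟩ := (Subgroup.ne_bot_iff_exists_ne_one).mp hX1
    have hx1' : (x : G) ≠ 1 := fun h => hx1 (Subtype.ext h)
    have h := Cfsg.Agent.Lib.Helper97.BG.tau3_semiprime hG h1403 h1404 h1405 h1414 h1415 h1416
      h1417 h1423 M hM E hE E₃ hE₃ (x : G) (hXE₃ x.2) hx1'
    rw [← h]
    exact inf_le_inf_left _ (Subgroup.centralizer_le (Set.singleton_subset_iff.mpr x.2))
  · exact inf_le_inf_left _ (centralizer_anti hXE₃)

/-- If `P` does not centralize `E₃`, it does not centralize some Sylow subgroup of `E₃`. -/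
theorem exists_sylowIn_not_centralized [Finite G] {E₃ P : Subgroup G}
    (hnc : ¬ P ≤ Subgroup.centralizer (E₃ : Set G)) :
    ∃ (t : ℕ) (S : Subgroup G), t.Prime ∧ IsSylowIn t S E₃ ∧
      ¬ P ≤ Subgroup.centralizer (S : Set G) := by
  by_contra hcon
  push Not at hcon
  apply hnc
  apply Subgroup.le_centralizer_iff.mp
  apply le_of_forall_sylow_le
  intro q hq _
  haveI : Fact q.Prime := ⟨hq⟩
  obtain ⟨R, hR, -⟩ := exists_isSylowIn_ge (p := q) (Q := (⊥ : Subgroup G)) (H := E₃)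
    IsPGroup.of_bot bot_le
  exact ⟨R, hR, Subgroup.le_centralizer_iff.mp (hcon q R hq hR)⟩

/-- If `Q` is a Sylow `q`-subgroup of `M_σ ∩ H` (`q ∈ σ(M)`) with `N(Q) ≤ M`, then `Q` is a Sylow
`q`-subgroup of `H`. -/
theorem isSylowIn_of_normalizer_le [Finite G] {M H Q : Subgroup G} {q : ℕ} [Fact q.Prime]
    (hHall : IsPiHallOf (sigma M) (sigmaCore M) M) (hq : q ∈ sigma M)
    (hQ : IsSylowIn q Q (sigmaCore M ⊓ H)) (hN : Subgroup.normalizer (Q : Set G) ≤ M) :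
    IsSylowIn q Q H := by
  have hQp : IsPGroup q Q := sylIn_isPGroup hQ
  have hQH : Q ≤ H := hQ.1.trans inf_le_right
  obtain ⟨T, hT, hQT⟩ := exists_isSylowIn_ge hQp hQH
  have hTp : IsPGroup q T := sylIn_isPGroup hT
  by_cases hne : Q = T
  · rw [hne]; exact hT
  · exfalso
    obtain ⟨x, hxT, hxN, hxQ⟩ := exists_mem_normalizer_not_mem hTp hQT hne
    have hxM : x ∈ M := hN hxN
    have hxH : x ∈ H := hT.1 hxT
    have hzT : Subgroup.zpowers x ≤ T := (Subgroup.zpowers_le).mpr hxT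
    have hzp : IsPGroup q (Subgroup.zpowers x) := hTp.to_le hzT
    have hzσ : Subgroup.zpowers x ≤ sigmaCore M :=
      le_sigmaCore_of_isPGroup hHall hq hzp ((Subgroup.zpowers_le).mpr hxM)
    have hxD : x ∈ sigmaCore M ⊓ H := ⟨hzσ (Subgroup.mem_zpowers x), hxH⟩
    have hsup : Q ⊔ Subgroup.zpowers x = Q :=
      sylIn_eq_of_le hQ (hTp.to_le (sup_le hQT hzT))
        (sup_le hQ.1 ((Subgroup.zpowers_le).mpr hxD)) le_sup_left
    have hx' : x ∈ Q ⊔ Subgroup.zpowers x := Subgroup.mem_sup_right (Subgroup.mem_zpowers x)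
    rw [hsup] at hx'
    exact hxQ hx'

/-- For a nontrivial Sylow subgroup `Q` of `D₃ = C_{M_σ}(E₃)` normalized by `P`, where `P` does
not centralize the `t`-subgroup `S ≤ E₃`: `N(Q) ≤ M`. -/
theorem normalizer_le_of_sylow_D3 [Finite G] (hG : IsMinSimpleOddOrder G)
    (h1350 : type_of% (@Cfsg.CfsgFrozen.S1350 G _ _ hG))
    (h1403 : type_of% (@Cfsg.CfsgFrozen.S1403 G _ _ hG))
    (h1404 : type_of% (@Cfsg.CfsgFrozen.S1404 G _ _ hG))
    (h1405 : type_of% (@Cfsg.CfsgFrozen.S1405 G _ _ hG))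
    (h1414 : type_of% (@Cfsg.CfsgFrozen.S1414 G _ _ hG))
    (h1415 : type_of% (@Cfsg.CfsgFrozen.S1415 G _ _ hG))
    (h1416 : type_of% (@Cfsg.CfsgFrozen.S1416 G _ _ hG))
    (h1417 : type_of% (@Cfsg.CfsgFrozen.S1417 G _ _ hG))
    (h1423 : type_of% (@Cfsg.CfsgFrozen.S1423 G _ _ hG))
    (h1424 : type_of% (@Cfsg.CfsgFrozen.S1424 G _ _ hG))
    {M E E₃ : Subgroup G} (hM : IsCoatom M) (hE : IsComplIn E (sigmaCore M) M)
    (hE₃ : IsPiHallOf (tau3 M) E₃ E) {t : ℕ} [Fact t.Prime] (htσ : t ∉ sigma M)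
    {S P : Subgroup G} (hSE₃ : S ≤ E₃) (hSt : IsPGroup t S) (hPE : P ≤ E)
    (hPS : P ≤ Subgroup.normalizer (S : Set G))
    {x y : G} (hx : x ∈ S) (hy : y ∈ P) (hxy : x * y ≠ y * x)
    {q : ℕ} [Fact q.Prime] {Q : Subgroup G}
    (hQ : IsSylowIn q Q (sigmaCore M ⊓ Subgroup.centralizer (E₃ : Set G))) (hQ1 : Q ≠ ⊥)
    (hPQ : P ≤ Subgroup.normalizer (Q : Set G)) : Subgroup.normalizer (Q : Set G) ≤ M := by
  have hHall := (h1350 M hM).1
  have hEM : E ≤ M := hE.1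
  have hQp : IsPGroup q Q := sylIn_isPGroup hQ
  have hQσ : Q ≤ sigmaCore M := hQ.1.trans inf_le_left
  have hqσ : q ∈ sigma M := mem_sigma_of_le_sigmaCore hQp hQ1 hQσ
  have hQM : Q ≤ M := hQσ.trans (Cfsg.Agent.Lib.Helper67.BG.sigmaCore_le M)
  have hQtop : Q ≠ ⊤ := fun h => hM.1 (top_le_iff.mp (h ▸ hQM))
  obtain ⟨L, hL, hNL⟩ := exists_coatom_ge (normalizer_ne_top hG hQ1 hQtop)
  by_cases hLM : L = M
  · exact hLM ▸ hNL
  have hQL : Q ≤ L := Subgroup.le_normalizer.trans hNL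
  have hQML : Q ≤ M ⊓ L := le_inf hQM hQL
  obtain ⟨R, hR, hQR⟩ := exists_isSylowIn_ge hQp hQML
  obtain ⟨S', hS'⟩ := hR.exists_sylow
  have hRp : IsPGroup q R := sylIn_isPGroup hR
  obtain ⟨hncL, hNR, -⟩ := h1424 M hM q hqσ Q hQp hQ1 hQM L hL hLM hNL S' (by rw [hS']; exact hQR)
  rw [hS'] at hNR
  -- `S`, `P ≤ L`
  have hPL : P ≤ L := hPQ.trans hNL
  have hE₃Q : E₃ ≤ Subgroup.centralizer (Q : Set G) :=
    Subgroup.le_centralizer_iff.mp (hQ.1.trans inf_le_right)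
  have hSL : S ≤ L := ((hSE₃.trans hE₃Q).trans (centralizer_le_normalizer' Q)).trans hNL
  have hSM : S ≤ M := (hSE₃.trans hE₃.1).trans hEM
  -- `t ∣ |L'|`
  have hcS : x * y * x⁻¹ * y⁻¹ ∈ S := by
    have h1 : y * x⁻¹ * y⁻¹ ∈ S :=
      (Subgroup.mem_normalizer_iff.mp (hPS hy) x⁻¹).mp (S.inv_mem hx)
    have e : x * y * x⁻¹ * y⁻¹ = x * (y * x⁻¹ * y⁻¹) := by group
    rw [e]; exact S.mul_mem hx h1
  have hc1 : x * y * x⁻¹ * y⁻¹ ≠ 1 := by
    intro h
    apply hxy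
    have : x * y = (x * y * x⁻¹ * y⁻¹) * (y * x) := by group
    rw [this, h, one_mul]
  have hcL : x * y * x⁻¹ * y⁻¹ ∈ ⁅L, L⁆ := by
    have := Subgroup.commutator_mem_commutator (hSL hx) (hPL hy)
    rwa [commutatorElement_def] at this
  have htL : t ∉ tau1 L := fun h =>
    h.2.2.2.1 ((dvd_orderOf_of_isPGroup hSt hcS hc1).trans (Subgroup.orderOf_dvd_natCard _ hcL))
  -- Lemma X: `S` centralizes `R`
  have hRσ : R ≤ sigmaCore M := le_sigmaCore_of_isPGroup hHall hqσ hRp (hR.1.trans inf_le_left)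
  have hS1 : S ≠ ⊥ := by
    intro h
    rw [h, Subgroup.mem_bot] at hx
    apply hxy; rw [hx, one_mul, mul_one]
  have hRD : R ≤ sigmaCore M ⊓ Subgroup.centralizer (E₃ : Set G) := by
    rw [← inf_centralizer_eq_D3 hG h1403 h1404 h1405 h1414 h1415 h1416 h1417 h1423 hM hE hE₃
      hSE₃ hS1]
    refine le_inf hRσ ?_
    intro c hc
    rw [Subgroup.mem_centralizer_iff]
    intro s hs
    obtain ⟨k, hk⟩ := hSt ⟨s, hs⟩
    have hk' : s ^ t ^ k = 1 := by
      have := congrArg Subtype.val hk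
      simpa using this
    exact (Cfsg.Agent.Lib.Helper13.BG.lemX hG h1403 h1404 h1405 h1414 h1415 h1416 h1417 h1423
      hM hL hncL htσ htL (hRσ hc) ((hR.1.trans inf_le_right) hc) (hSM hs) (hSL hs) hk').symm
  have hRQ : R = Q := sylIn_eq_of_le hQ hRp hRD hQR
  rw [hRQ] at hNR
  exact hNR

/-- `D ≤ M_σ` with `M_α ∩ D = 1` is nilpotent. -/
theorem isNilpotent_of_alphaCore_inf_eq_bot [Finite G] (hG : IsMinSimpleOddOrder G)
    (h1405 : type_of% (@Cfsg.CfsgFrozen.S1405 G _ _ hG))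
    (h1426 : type_of% (@Cfsg.CfsgFrozen.S1426 G _ _ hG))
    {M E D : Subgroup G} (hM : IsCoatom M) (hE : IsComplIn E (sigmaCore M) M)
    (hDσ : D ≤ sigmaCore M) (hD : alphaCore M ⊓ D = ⊥) : Group.IsNilpotent D := by
  have hnil := (h1405 M hM).2.2.2.2
  have hσM : sigmaCore M ≤ M := Cfsg.Agent.Lib.Helper67.BG.sigmaCore_le M
  have hDM : D ≤ M := hDσ.trans hσM
  have hσcomm : sigmaCore M ≤ ⁅M, M⁆ := by
    have h1 := (h1426 M hM E hE).2.1
    rw [← h1]
    exact Subgroup.commutator_mono hσM hE.1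
  have hDK : D.subgroupOf M ≤ commutator ↥M := by
    intro d hd
    have hd' : (d : G) ∈ ⁅M, M⁆ := hσcomm (hDσ (Subgroup.mem_subgroupOf.mp hd))
    rw [← Subgroup.map_subtype_commutator] at hd'
    obtain ⟨c, hc, hcd⟩ := hd'
    have : c = d := Subtype.ext hcd
    rw [← this]; exact hc
  have hDN : D.subgroupOf M ⊓ piCore (alpha M) ↥M = ⊥ := by
    rw [eq_bot_iff]
    intro d hd
    have h1 : (d : G) ∈ alphaCore M ⊓ D :=
      ⟨⟨d, hd.2, rfl⟩, Subgroup.mem_subgroupOf.mp hd.1⟩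
    rw [hD, Subgroup.mem_bot] at h1
    rw [Subgroup.mem_bot]
    exact Subtype.ext h1
  have h2 : Group.IsNilpotent ↥(D.subgroupOf M) :=
    isNilpotent_of_inf_eq_bot (piCore (alpha M) ↥M) (commutator ↥M) (D.subgroupOf M) hnil hDK hDN
  haveI := h2
  exact Group.nilpotent_of_mulEquiv (Subgroup.subgroupOfEquivOfLe hDM)

/-- A nilpotent subgroup contained in two distinct maximal subgroups is abelian. -/
theorem comm_of_nilpotent_of_le_two [Finite G] (hG : IsMinSimpleOddOrder G)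
    (h1422 : type_of% (@Cfsg.CfsgFrozen.S1422 G _ _ hG))
    {M H D : Subgroup G} (hM : IsCoatom M) (hH : IsCoatom H) (hHM : H ≠ M) (hDM : D ≤ M)
    (hDH : D ≤ H) (hnil : Group.IsNilpotent D) : ∀ a ∈ D, ∀ b ∈ D, a * b = b * a := by
  have key : ∀ a b : ↥D, a * b = b * a := by
    apply Cfsg.Agent.Lib.Helper76.BG.comm_of_nilpotent_of_sylow_comm hnil
    intro p _ P a ha b hb
    by_contra hab
    -- the image of `P` in `G` is a nonabelian `p`-group
    have hPp : IsPGroup p ((P : Subgroup ↥D).map D.subtype) := P.2.map D.subtype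
    have hna : ¬ IsMulCommutative ↥((P : Subgroup ↥D).map D.subtype) := by
      intro hc
      have h1 := isMulCommutative_subgroup_iff.mp hc (a : G) ⟨a, ha, rfl⟩ (b : G) ⟨b, hb, rfl⟩
      exact hab (Subtype.ext h1)
    obtain ⟨L, ⟨hL, hPL⟩, huniq⟩ := h1422 p ((P : Subgroup ↥D).map D.subtype) hPp hna
    have hle : (P : Subgroup ↥D).map D.subtype ≤ D := Subgroup.map_subtype_le _
    have e1 : M = L := huniq M ⟨hM, hle.trans hDM⟩
    have e2 : H = L := huniq H ⟨hH, hle.trans hDH⟩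
    exact hHM (e2.trans e1.symm)
  intro a ha b hb
  exact congrArg Subtype.val (key ⟨a, ha⟩ ⟨b, hb⟩)

/-- **B&G Lemma 13.10(b)**.  If a subgroup `P` of prime order of `E` does not centralize the Hall
`τ₃(M)`-subgroup `E₃` of `E`, then `E₃` acts regularly on `M_σ`: `C_{M_σ}(E₃) = 1`. -/
theorem p3 [Finite G] (hG : IsMinSimpleOddOrder G)
    (h1350 : type_of% (@Cfsg.CfsgFrozen.S1350 G _ _ hG))
    (h1403 : type_of% (@Cfsg.CfsgFrozen.S1403 G _ _ hG))
    (h1404 : type_of% (@Cfsg.CfsgFrozen.S1404 G _ _ hG))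
    (h1405 : type_of% (@Cfsg.CfsgFrozen.S1405 G _ _ hG))
    (h1414 : type_of% (@Cfsg.CfsgFrozen.S1414 G _ _ hG))
    (h1415 : type_of% (@Cfsg.CfsgFrozen.S1415 G _ _ hG))
    (h1416 : type_of% (@Cfsg.CfsgFrozen.S1416 G _ _ hG))
    (h1417 : type_of% (@Cfsg.CfsgFrozen.S1417 G _ _ hG))
    (h1422 : type_of% (@Cfsg.CfsgFrozen.S1422 G _ _ hG))
    (h1423 : type_of% (@Cfsg.CfsgFrozen.S1423 G _ _ hG))
    (h1424 : type_of% (@Cfsg.CfsgFrozen.S1424 G _ _ hG))
    (h1426 : type_of% (@Cfsg.CfsgFrozen.S1426 G _ _ hG))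
    (h1427 : type_of% (@Cfsg.CfsgFrozen.S1427 G _ _ hG))
    (h1428 : type_of% (@Cfsg.CfsgFrozen.S1428 G _ _ hG))
    (hL4 : L4Prop G) (hAsym : AsymProp G) :
    ∀ M : Subgroup G, IsCoatom M → ∀ E : Subgroup G, IsComplIn E (sigmaCore M) M →
    ∀ E₃ : Subgroup G, IsPiHallOf (tau3 M) E₃ E → ∀ P : Subgroup G, P ≤ E → (Nat.card P).Prime →
    ¬ P ≤ Subgroup.centralizer (E₃ : Set G) →
    sigmaCore M ⊓ Subgroup.centralizer (E₃ : Set G) = ⊥ := by
  intro M hM E hE E₃ hE₃ P hPE hPc hnc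
  by_contra hD3
  have hHall := (h1350 M hM).1
  have hEM : E ≤ M := hE.1
  have hσM : sigmaCore M ≤ M := Cfsg.Agent.Lib.Helper67.BG.sigmaCore_le M
  have hασ : alphaCore M ≤ sigmaCore M := (h1405 M hM).2.2.1
  obtain ⟨-, -, hE3all⟩ := h1415 M hM E hE
  obtain ⟨hE₃cyc, -, hE₃norm⟩ := hE3all E₃ hE₃
  have hE₃E : E₃ ≤ E := hE₃.1
  have hE₃ne : E₃ ≠ ⊥ := by
    intro h
    apply hnc
    rw [h]
    intro y _
    rw [Subgroup.mem_centralizer_iff]
    intro z hz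
    rw [SetLike.mem_coe, Subgroup.mem_bot] at hz
    rw [hz, one_mul, mul_one]
  obtain ⟨hτ2, hsplit⟩ := Cfsg.Agent.Lib.Helper97.BG.tau2_empty_split hG h1403 h1404 h1405 h1414
    h1415 h1416 h1417 h1423 M hM E hE E₃ hE₃ hD3 hE₃ne
  -- `p₁ := |P| ∈ τ₁(M)`
  obtain ⟨p1, hp1⟩ : ∃ p1 : ℕ, p1 = Nat.card P := ⟨_, rfl⟩
  have hp1p : p1.Prime := hp1 ▸ hPc
  haveI : Fact p1.Prime := ⟨hp1p⟩
  have hPp : IsPGroup p1 P := IsPGroup.of_card (n := 1) (by rw [pow_one, hp1])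
  have hPprimes : ∀ r : ℕ, r.Prime → r ∣ Nat.card P → r = p1 := fun r hr hrd =>
    (Nat.prime_dvd_prime_iff_eq hr hp1p).mp (hp1 ▸ hrd)
  have hp1τ : p1 ∈ tau1 M := by
    rcases Cfsg.Agent.Lib.Helper97.BG.mem_tau_of_dvd_card_compl hG h1404 h1405 hM hE hp1p
      (hp1 ▸ Subgroup.card_dvd_of_le hPE) with h | h | h
    · exact h
    · exact absurd h (hτ2 p1)
    · exfalso
      apply hnc
      have hPE₃ : P ≤ E₃ := Cfsg.Agent.Lib.Helper74.BG.le_of_isPiHallOf_of_normal hE₃ hE₃norm hPE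
        (fun r hr hrd => by rw [hPprimes r hr hrd]; exact h)
      intro y hy
      rw [Subgroup.mem_centralizer_iff]
      intro z hz
      exact Cfsg.Agent.Lib.Helper20.BG.comm_of_isCyclic hE₃cyc z hz y (hPE₃ hy)
  have hp1σ : p1 ∉ sigma M := hp1τ.2.1
  -- a Sylow subgroup `S` of `E₃` not centralized by `P`
  obtain ⟨t, S, ht, hS, hSnc⟩ := exists_sylowIn_not_centralized hnc
  haveI : Fact t.Prime := ⟨ht⟩
  have hSE₃ : S ≤ E₃ := hS.1
  have hSt : IsPGroup t S := sylIn_isPGroup hS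
  have hSE : S ≤ E := hSE₃.trans hE₃E
  have hSM : S ≤ M := hSE.trans hEM
  obtain ⟨x, hxS, y, hyP, hxy⟩ : ∃ x ∈ S, ∃ y ∈ P, x * y ≠ y * x := by
    by_contra hcon
    push Not at hcon
    apply hSnc
    intro y hy
    rw [Subgroup.mem_centralizer_iff]
    intro z hz
    exact hcon z hz y hy
  have hS1 : S ≠ ⊥ := by
    intro h
    rw [h, Subgroup.mem_bot] at hxS
    apply hxy; rw [hxS, one_mul, mul_one]
  have htE₃ : t ∣ Nat.card E₃ :=
    (Cfsg.Agent.Lib.Helper67.BG.dvd_card_of_isPGroup_ne_bot hSt hS1).trans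
      (Subgroup.card_dvd_of_le hSE₃)
  have htτ : t ∈ tau3 M := hE₃.2.1 t ht htE₃
  have htσ : t ∉ sigma M := htτ.2.1
  haveI := hE₃cyc
  have hScyc : IsCyclic S := Subgroup.isCyclic_of_le hSE₃
  have hES : E ≤ Subgroup.normalizer (S : Set G) :=
    Cfsg.Agent.Lib.Helper47.BG.le_normalizer_of_le_isCyclic hE₃cyc hSE₃ hE₃norm
  have hPS : P ≤ Subgroup.normalizer (S : Set G) := hPE.trans hES
  have hp1t : p1 ≠ t := fun h => hp1τ.2.2.2.1 (h ▸ htτ.2.2.1)
  have hcop : (Nat.card P).Coprime (Nat.card S) := by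
    rw [hS.2, ← hp1]
    exact Nat.Coprime.pow_right _ ((Nat.coprime_primes hp1p ht).mpr hp1t)
  have hSfix : S ⊓ Subgroup.centralizer (P : Set G) = ⊥ :=
    inf_centralizer_eq_bot_of_isCyclic hScyc hSt hPS hcop hSnc
  -- `S` is a Sylow subgroup of `M`
  have hSM' : IsSylowIn t S M := by
    obtain ⟨R, hRE, hRM⟩ := Cfsg.Agent.Lib.Helper79.BG.sylow_compl M E hE t htσ
    have hRE₃ : R ≤ E₃ := Cfsg.Agent.Lib.Helper74.BG.le_of_isPiHallOf_of_normal hE₃ hE₃norm hRE.1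
      (fun r hr hrd => by
        rw [Cfsg.Agent.Lib.Helper67.BG.prime_eq_of_dvd_card_isPGroup (sylIn_isPGroup hRE) hr hrd]
        exact htτ)
    have h1 : Nat.card R ≤ Nat.card S := sylIn_card_le hS (sylIn_isPGroup hRE) hRE₃
    have h2 : Nat.card S ≤ Nat.card R := sylIn_card_le hRE hSt hSE
    exact sylIn_of_card_eq hRM hSM (le_antisymm h2 h1)
  -- the subgroup `X` of order `t` and a maximal subgroup `H` over `N(X)`
  obtain ⟨x0, hx0S, hx0o⟩ := exists_orderOf_eq_of_isPGroup hSt hS1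
  obtain ⟨X, hXdef⟩ : ∃ X : Subgroup G, X = Subgroup.zpowers x0 := ⟨_, rfl⟩
  have hXS : X ≤ S := by rw [hXdef]; exact (Subgroup.zpowers_le).mpr hx0S
  have hXc : Nat.card X = t := by rw [hXdef, Nat.card_zpowers, hx0o]
  have hXE₃ : X ≤ E₃ := hXS.trans hSE₃
  have hX1 : X ≠ ⊥ := by
    intro h
    rw [h, Subgroup.card_bot] at hXc
    exact ht.one_lt.ne hXc
  have hXtop : X ≠ ⊤ := fun h => hM.1 (top_le_iff.mp (h ▸ (hXS.trans hSM)))
  obtain ⟨H, hH, hNH⟩ := exists_coatom_ge (normalizer_ne_top hG hX1 hXtop)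
  obtain ⟨hEH, hncH, -, hMσH, hτ1free, -⟩ := Cfsg.Agent.Lib.Helper97.BG.tau3_coatom hG h1403 h1404
    h1405 h1414 h1415 h1416 h1417 h1423 M hM E hE E₃ hE₃ X hXE₃ (hXc ▸ ht) H hH hNH
  have hHM : H ≠ M := fun h => hncH 1 (by rw [h, map_conj_one])
  have hNS : Subgroup.normalizer (S : Set G) ≤ H :=
    (Cfsg.Agent.Lib.Helper47.BG.le_normalizer_of_le_isCyclic hScyc hXS le_rfl).trans hNH
  -- Lemma L4
  obtain ⟨hfact, hfix⟩ := hL4 M H hM hH hHM p1 hp1τ P (hPE.trans hEM) hp1.symm t S ht hSM' hS1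
    hPS hSfix hNS
  -- `D₃`
  obtain ⟨D3, hD3def⟩ : ∃ D3 : Subgroup G,
    D3 = sigmaCore M ⊓ Subgroup.centralizer (E₃ : Set G) := ⟨_, rfl⟩
  rw [← hD3def] at hD3 hMσH hτ1free
  have hD3σ : D3 ≤ sigmaCore M := by rw [hD3def]; exact inf_le_left
  have hD3S : sigmaCore M ⊓ Subgroup.centralizer (S : Set G) = D3 := by
    rw [hD3def]
    exact inf_centralizer_eq_D3 hG h1403 h1404 h1405 h1414 h1415 h1416 h1417 h1423 hM hE hE₃
      hSE₃ hS1
  have hD3S' : D3 ≤ Subgroup.centralizer (S : Set G) := by rw [← hD3S]; exact inf_le_right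
  -- `M_σ = M_α D₃`
  have hσfact : ∀ s ∈ sigmaCore M, ∃ a ∈ alphaCore M, ∃ d ∈ D3, s = a * d := by
    intro s hs
    obtain ⟨a, ha, n, hn, hsn⟩ := hfact s (hσM hs)
    obtain ⟨e, he, c, hc, hnec⟩ := hE.2.2.2 n hn.1
    have hcN : c ∈ Subgroup.normalizer (S : Set G) := by
      have e1 : c = e⁻¹ * n := by rw [hnec]; group
      rw [e1]
      exact (Subgroup.normalizer _).mul_mem ((Subgroup.normalizer _).inv_mem (hES he)) hn.2
    have hcC : c ∈ Subgroup.centralizer (S : Set G) := by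
      rw [Subgroup.mem_centralizer_iff]
      intro s' hs'
      have h1 : c * s' * c⁻¹ ∈ S := (Subgroup.mem_normalizer_iff.mp hcN s').mp hs'
      have h2 : c * s' * c⁻¹ * s'⁻¹ ∈ S := S.mul_mem h1 (S.inv_mem hs')
      have h3 : c * s' * c⁻¹ * s'⁻¹ ∈ sigmaCore M := by
        have h5 : s' * c⁻¹ * s'⁻¹ ∈ sigmaCore M :=
          (Subgroup.mem_normalizer_iff.mp
            (Cfsg.Agent.Lib.Helper67.BG.sigmaCore_normalizer M (hSM hs')) c⁻¹).mp
            ((sigmaCore M).inv_mem hc)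
        have e2 : c * s' * c⁻¹ * s'⁻¹ = c * (s' * c⁻¹ * s'⁻¹) := by group
        rw [e2]; exact (sigmaCore M).mul_mem hc h5
      have h4 : c * s' * c⁻¹ * s'⁻¹ ∈ E ⊓ sigmaCore M := ⟨hSE h2, h3⟩
      rw [hE.2.2.1, Subgroup.mem_bot] at h4
      have e3 : c * s' = (c * s' * c⁻¹ * s'⁻¹) * (s' * c) := by group
      rw [e3, h4, one_mul]
    have hcD : c ∈ D3 := by rw [← hD3S]; exact ⟨hc, hcC⟩
    have heσ : e ∈ sigmaCore M := by
      have e4 : e = a⁻¹ * s * c⁻¹ := by rw [hsn, hnec]; group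
      rw [e4]
      exact (sigmaCore M).mul_mem ((sigmaCore M).mul_mem ((sigmaCore M).inv_mem (hασ ha)) hs)
        ((sigmaCore M).inv_mem hc)
    have he1 : e = 1 := by
      have h6 : e ∈ E ⊓ sigmaCore M := ⟨he, heσ⟩
      rwa [hE.2.2.1, Subgroup.mem_bot] at h6
    exact ⟨a, ha, c, hcD, by rw [hsn, hnec, he1, one_mul]⟩
  have hαD : alphaCore M ⊓ D3 ⊓ Subgroup.centralizer (P : Set G) = ⊥ := by
    rw [eq_bot_iff, ← hfix]
    exact le_inf (le_inf (inf_le_left.trans inf_le_left)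
      ((inf_le_left.trans inf_le_right).trans hD3S')) inf_le_right
  -- a Hall `τ₁(M)`-subgroup `E₁` over `P`; `C_{D₃}(P) ≤ C_{M_σ}(E) ≤ M_σ'`
  have hEtop : E ≠ ⊤ := fun h => hM.1 (top_le_iff.mp (h ▸ hEM))
  have hEsolv : Group.IsSolvable E := isSolvable_of_ne_top hG hEtop
  obtain ⟨E₁, hE₁, hPE₁⟩ := Cfsg.Agent.Lib.Helper67.BG.exists_piHallOf_ge (tau1 M) E hEsolv P hPE
    (fun r hr hrd => by rw [hPprimes r hr hrd]; exact hp1τ)
  obtain ⟨hsup, -, -, -⟩ := hsplit E₁ hE₁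
  have hy1 : y ≠ 1 := by
    intro h
    apply hxy; rw [h, one_mul, mul_one]
  have hP0 := Cfsg.Agent.Lib.Helper85.BG.tau1_semiprime hG h1415 h1427 h1428 M hM E hE E₁ hE₁ y
    (hPE₁ hyP) hy1
  have hDP : D3 ⊓ Subgroup.centralizer (P : Set G) ≤ ⁅sigmaCore M, sigmaCore M⁆ := by
    refine le_trans ?_ (h1426 M hM E hE).1
    refine le_inf (inf_le_left.trans hD3σ) ?_
    rw [← hsup, centralizer_sup_eq]
    refine le_inf ?_ ?_
    · rw [hD3def]; exact inf_le_left.trans inf_le_right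
    · have h7 : D3 ⊓ Subgroup.centralizer (P : Set G) ≤
          sigmaCore M ⊓ Subgroup.centralizer ({y} : Set G) :=
        le_inf (inf_le_left.trans hD3σ)
          (inf_le_right.trans (Subgroup.centralizer_le (Set.singleton_subset_iff.mpr hyP)))
      rw [hP0] at h7
      exact h7.trans inf_le_right
  have hnormα : M ≤ Subgroup.normalizer (alphaCore M : Set G) :=
    Cfsg.Agent.Lib.Helper27.BG.le_normalizer_piCoreOf (alpha M) M
  by_cases hcase : D3 ≤ Subgroup.centralizer (P : Set G)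
  · -- Case `[D₃, P] = 1`
    have hD3' : D3 ≤ ⁅sigmaCore M, sigmaCore M⁆ := by
      have h8 : D3 ⊓ Subgroup.centralizer (P : Set G) = D3 := inf_eq_left.mpr hcase
      rw [← h8]; exact hDP
    have hαD' : alphaCore M ⊓ D3 = ⊥ := by
      rw [eq_bot_iff, ← hαD]
      exact le_inf le_rfl (inf_le_right.trans hcase)
    have hle : sigmaCore M ≤ alphaCore M ⊔ ⁅sigmaCore M, sigmaCore M⁆ := by
      intro s hs
      obtain ⟨a, ha, d, hd, rfl⟩ := hσfact s hs
      exact Subgroup.mul_mem_sup ha (hD3' hd)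
    have hσtop : sigmaCore M ≠ ⊤ := fun h => hM.1 (top_le_iff.mp (h ▸ hσM))
    have hσα : sigmaCore M ≤ alphaCore M :=
      le_of_isSolvable_of_le_sup_commutator hασ (hσM.trans hnormα)
        (isSolvable_of_ne_top hG hσtop) hle
    apply hD3
    rw [eq_bot_iff, ← hαD']
    exact le_inf (hD3σ.trans hσα) le_rfl
  · -- Case `[D₃, P] ≠ 1`
    have hp1H : p1 ∈ tau1 H := by
      by_contra hcon
      apply hcase
      intro d hd
      rw [Subgroup.mem_centralizer_iff]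
      intro y' hy'
      have hy'c := hτ1free y' (hPE hy') (fun r hr hrd => by
        rw [hPprimes r hr (hrd.trans (Subgroup.orderOf_dvd_natCard P hy'))]; exact hcon)
      exact ((Subgroup.mem_centralizer_iff.mp hy'c) d hd).symm
    have hD3H : D3 ≤ H := by rw [← hMσH]; exact inf_le_right
    have hPH : P ≤ H := hPE.trans hEH
    have hED3 : E ≤ Subgroup.normalizer (D3 : Set G) := by
      rw [hD3def]
      exact le_normalizer_inf_of_le (hEM.trans (Cfsg.Agent.Lib.Helper67.BG.sigmaCore_normalizer M))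
        (hE₃norm.trans (normalizer_le_normalizer_centralizer E₃))
    have hPD3 : P ≤ Subgroup.normalizer (D3 : Set G) := hPE.trans hED3
    -- a prime `q` all of whose Sylow subgroups in `D₃` are fixed-point-freely acted on by `P`
    obtain ⟨q, hq, hqD, hqfix⟩ : ∃ q : ℕ, q.Prime ∧ q ∣ Nat.card D3 ∧
        ∀ Q : Subgroup G, IsSylowIn q Q D3 → Q ⊓ Subgroup.centralizer (P : Set G) = ⊥ := by
      by_cases hα : alphaCore M ⊓ D3 = ⊥
      · have hnil : Group.IsNilpotent D3 :=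
          isNilpotent_of_alphaCore_inf_eq_bot hG h1405 h1426 hM hE hD3σ hα
        have hab : ∀ a ∈ D3, ∀ b ∈ D3, a * b = b * a :=
          comm_of_nilpotent_of_le_two hG h1422 hM hH hHM (hD3σ.trans hσM) hD3H hnil
        have hcomm : ⁅sigmaCore M, sigmaCore M⁆ ≤ alphaCore M :=
          commutator_le_of_factor (hσM.trans hnormα) hD3σ hσfact hab
        have hfixD : D3 ⊓ Subgroup.centralizer (P : Set G) = ⊥ := by
          rw [eq_bot_iff, ← hα]
          exact le_inf (hDP.trans hcomm) inf_le_left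
        have hD3ne : Nat.card D3 ≠ 1 := fun h => hD3 (Subgroup.card_eq_one.mp h)
        obtain ⟨q, hq, hqd⟩ := Nat.exists_prime_and_dvd hD3ne
        exact ⟨q, hq, hqd, fun Q hQ => by
          rw [eq_bot_iff, ← hfixD]; exact inf_le_inf_right _ hQ.1⟩
      · have hne : Nat.card (alphaCore M ⊓ D3 : Subgroup G) ≠ 1 := fun h =>
          hα (Subgroup.card_eq_one.mp h)
        obtain ⟨q, hq, hqd⟩ := Nat.exists_prime_and_dvd hne
        refine ⟨q, hq, hqd.trans (Subgroup.card_dvd_of_le inf_le_right), ?_⟩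
        intro Q hQ
        haveI : Fact q.Prime := ⟨hq⟩
        have hqα : q ∈ alpha M :=
          (h1405 M hM).1.2.1 q hq (hqd.trans (Subgroup.card_dvd_of_le inf_le_left))
        have hQα : Q ≤ alphaCore M :=
          Cfsg.Agent.Lib.Helper74.BG.le_of_isPiHallOf_of_normal (h1405 M hM).1 hnormα
            ((hQ.1.trans hD3σ).trans hσM) (fun r hr hrd => by
              rw [Cfsg.Agent.Lib.Helper67.BG.prime_eq_of_dvd_card_isPGroup (sylIn_isPGroup hQ)
                hr hrd]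
              exact hqα)
        rw [eq_bot_iff, ← hαD]
        exact le_inf (le_inf (inf_le_left.trans hQα) (inf_le_left.trans hQ.1)) inf_le_right
    haveI : Fact q.Prime := ⟨hq⟩
    have hnd : ¬ p1 ∣ Nat.card (Sylow q ↥D3) := fun h =>
      hp1σ (Cfsg.Agent.Lib.Helper67.BG.sigmaCore_isPi M p1 hp1p
        ((h.trans (Cfsg.Agent.Lib.Helper13.BG.card_sylow_dvd_card D3)).trans
          (Subgroup.card_dvd_of_le hD3σ)))
    obtain ⟨Q, hQ, hPQ⟩ := Cfsg.Agent.Lib.Helper13.BG.exists_normalized_sylow hPp hPD3 hnd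
    have hQ1 : Q ≠ ⊥ := by
      intro h
      have h9 := hQ.2
      rw [h, Subgroup.card_bot] at h9
      have h10 : (Nat.card D3).factorization q = 0 := by
        by_contra h11
        have : 1 < q ^ (Nat.card D3).factorization q := Nat.one_lt_pow h11 hq.one_lt
        omega
      rcases (Nat.factorization_eq_zero_iff _ _).mp h10 with h12 | h12 | h12
      · exact h12 hq
      · exact h12 hqD
      · exact Nat.card_pos.ne' h12
    have hQfix := hqfix Q hQ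
    have hNQ : Subgroup.normalizer (Q : Set G) ≤ M :=
      normalizer_le_of_sylow_D3 hG h1350 h1403 h1404 h1405 h1414 h1415 h1416 h1417 h1423 h1424
        hM hE hE₃ htσ hSE₃ hSt hPE hPS hxS hyP hxy (hD3def ▸ hQ) hQ1 hPQ
    have hQσ : Q ≤ sigmaCore M := hQ.1.trans hD3σ
    have hqσ : q ∈ sigma M := mem_sigma_of_le_sigmaCore (sylIn_isPGroup hQ) hQ1 hQσ
    have hQH : IsSylowIn q Q H := isSylowIn_of_normalizer_le hHall hqσ (hMσH ▸ hQ) hNQ
    exact hAsym M H hM hH hncH p1 hp1τ hp1H P (hPE.trans hEM) hPH hp1.symm t S ht hSM' hS1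
      (hSE.trans hEH) hNS hPS hSfix q Q hq hQH hQ1 (hQσ.trans hσM) hNQ hPQ hQfix

end Cfsg.Agent.Lib.Helper34.BG
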