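import Mathlib
import Cfsg.Statements.S1407
import Cfsg.Statements.S1418
import Cfsg.Statements.S1420
import Cfsg.Agent.Lib.Helper34.BG.Tau13
import Cfsg.Agent.Lib.Helper54.BG.AsymL4
import Cfsg.Agent.Lib.Helper97.BG.Tau13P4

/-!
# B&G 13.10 / 13.11 assembled

`l4Prop`: the black box `L4Prop G` from helper54's `lemL4`.
`hyp1311_of_asym`: `Hyp1311 G` (B&G 13.11) from the frozen statements, the σ-partition and the
asymmetry lemma `AsymProp G` (B&G 13.8).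
-/

set_option autoImplicit false
set_option linter.unusedSectionVars false
set_option linter.unusedVariables false

namespace Cfsg.Agent.Lib.Helper34.BG

open Cfsg Cfsg.Agent.Lib.Helper46 Cfsg.Agent.Lib.Helper35.BG

universe u

variable {G : Type u} [Group G]

/-- `L4Prop G` holds (B&G 13.4/13.5, formalized by helper54). -/
theorem l4Prop [Finite G] (hG : IsMinSimpleOddOrder G)
    (h1403 : type_of% (@Cfsg.CfsgFrozen.S1403 G _ _ hG))
    (h1405 : type_of% (@Cfsg.CfsgFrozen.S1405 G _ _ hG))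
    (h1407 : type_of% (@Cfsg.CfsgFrozen.S1407 G _ _ hG))
    (h1414 : type_of% (@Cfsg.CfsgFrozen.S1414 G _ _ hG)) : L4Prop G := by
  intro M Ms hM hMs hne p hp P hPM hP q Q hq hQ hQ1 hPQ hCQ hNQ
  obtain ⟨-, -, -, -, h5, -, -, -, h9⟩ := Cfsg.Agent.Lib.Helper54.BG.lemL4 hG h1403 h1405 h1407
    h1414 hM hMs hne hp hPM hP hq hQ hPQ hCQ hNQ
  exact ⟨h5, h9⟩

/-- **B&G 13.11** (`Hyp1311 G`) from the σ-partition and the asymmetry lemma. -/
theorem hyp1311_of_asym [Finite G] (hG : IsMinSimpleOddOrder G)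
    (h1350 : type_of% (@Cfsg.CfsgFrozen.S1350 G _ _ hG))
    (h1403 : type_of% (@Cfsg.CfsgFrozen.S1403 G _ _ hG))
    (h1404 : type_of% (@Cfsg.CfsgFrozen.S1404 G _ _ hG))
    (h1405 : type_of% (@Cfsg.CfsgFrozen.S1405 G _ _ hG))
    (h1407 : type_of% (@Cfsg.CfsgFrozen.S1407 G _ _ hG))
    (h1414 : type_of% (@Cfsg.CfsgFrozen.S1414 G _ _ hG))
    (h1415 : type_of% (@Cfsg.CfsgFrozen.S1415 G _ _ hG))
    (h1416 : type_of% (@Cfsg.CfsgFrozen.S1416 G _ _ hG))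
    (h1417 : type_of% (@Cfsg.CfsgFrozen.S1417 G _ _ hG))
    (h1418 : type_of% (@Cfsg.CfsgFrozen.S1418 G _ _ hG))
    (h1420 : type_of% (@Cfsg.CfsgFrozen.S1420 G _ _ hG))
    (h1422 : type_of% (@Cfsg.CfsgFrozen.S1422 G _ _ hG))
    (h1423 : type_of% (@Cfsg.CfsgFrozen.S1423 G _ _ hG))
    (h1424 : type_of% (@Cfsg.CfsgFrozen.S1424 G _ _ hG))
    (h1426 : type_of% (@Cfsg.CfsgFrozen.S1426 G _ _ hG))
    (h1427 : type_of% (@Cfsg.CfsgFrozen.S1427 G _ _ hG))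
    (h1428 : type_of% (@Cfsg.CfsgFrozen.S1428 G _ _ hG))
    (hSigma : ∀ M N : Subgroup G, IsCoatom M → IsCoatom N → (sigma M ∩ sigma N).Nonempty →
      ∃ g : G, N = M.map (MulAut.conj g).toMonoidHom)
    (hAsym : AsymProp G) : Cfsg.Agent.Lib.Helper25.BG30.Hyp1311 G :=
  Cfsg.Agent.Lib.Helper97.BG.hyp1311_of_p3 hG h1403 h1404 h1405 h1414 h1415 h1416 h1417 h1418
    h1420 h1423 h1427 h1428 hSigma
    (p3 hG h1350 h1403 h1404 h1405 h1414 h1415 h1416 h1417 h1422 h1423 h1424 h1426 h1427 h1428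
      (l4Prop hG h1403 h1405 h1407 h1414) hAsym)

end Cfsg.Agent.Lib.Helper34.BG
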