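import Mathlib
import Cfsg.Statements.S1408
import Cfsg.Agent.Lib.Helper34.BG.Tau13Closed
import Cfsg.Agent.Lib.Helper54.BG.Asymmetry

/-!
# B&G 13.8 / 13.10 / 13.11, closed

`asymProp`: the black box `AsymProp G` from helper54's `asymmetry`.
`p3_closed`: B&G 13.10(b) from the frozen statements only.
`hyp1311`: B&G 13.11 (`Hyp1311 G`) from the frozen statements and the σ-partition.
-/

set_option autoImplicit false
set_option linter.unusedSectionVars false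
set_option linter.unusedVariables false

namespace Cfsg.Agent.Lib.Helper34.BG

open Cfsg Cfsg.Agent.Lib.Helper46 Cfsg.Agent.Lib.Helper35.BG

universe u

variable {G : Type u} [Group G]

/-- `AsymProp G` holds (B&G 13.8, formalized by helper54). -/
theorem asymProp [Finite G] (hG : IsMinSimpleOddOrder G)
    (h1350 : type_of% (@Cfsg.CfsgFrozen.S1350 G _ _ hG))
    (h1403 : type_of% (@Cfsg.CfsgFrozen.S1403 G _ _ hG))
    (h1404 : type_of% (@Cfsg.CfsgFrozen.S1404 G _ _ hG))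
    (h1405 : type_of% (@Cfsg.CfsgFrozen.S1405 G _ _ hG))
    (h1407 : type_of% (@Cfsg.CfsgFrozen.S1407 G _ _ hG))
    (h1408 : type_of% (@Cfsg.CfsgFrozen.S1408 G _ _ hG))
    (h1414 : type_of% (@Cfsg.CfsgFrozen.S1414 G _ _ hG))
    (h1423 : type_of% (@Cfsg.CfsgFrozen.S1423 G _ _ hG))
    (h1428 : type_of% (@Cfsg.CfsgFrozen.S1428 G _ _ hG)) : AsymProp G := by
  intro M Ms hM hMs hnc p hp hps P hPM hPMs hP q Q hq hQ _ _ hNQ hPQ hCQ qs Qs hqs hQs _ _ hNQs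
    hPQs hCQs
  exact Cfsg.Agent.Lib.Helper54.BG.asymmetry hG h1350 h1403 h1404 h1405 h1407 h1408 h1414 h1423
    h1428 hM hMs hnc hp hps hPM hPMs hP hq hQ hPQ hCQ hNQ hqs hQs hPQs hCQs hNQs

/-- **B&G Lemma 13.10(b)**, closed form. -/
theorem p3_closed [Finite G] (hG : IsMinSimpleOddOrder G)
    (h1350 : type_of% (@Cfsg.CfsgFrozen.S1350 G _ _ hG))
    (h1403 : type_of% (@Cfsg.CfsgFrozen.S1403 G _ _ hG))
    (h1404 : type_of% (@Cfsg.CfsgFrozen.S1404 G _ _ hG))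
    (h1405 : type_of% (@Cfsg.CfsgFrozen.S1405 G _ _ hG))
    (h1407 : type_of% (@Cfsg.CfsgFrozen.S1407 G _ _ hG))
    (h1408 : type_of% (@Cfsg.CfsgFrozen.S1408 G _ _ hG))
    (h1414 : type_of% (@Cfsg.CfsgFrozen.S1414 G _ _ hG))
    (h1415 : type_of% (@Cfsg.CfsgFrozen.S1415 G _ _ hG))
    (h1416 : type_of% (@Cfsg.CfsgFrozen.S1416 G _ _ hG))
    (h1417 : type_of% (@Cfsg.CfsgFrozen.S1417 G _ _ hG))
    (h1422 : type_of% (@Cfsg.CfsgFrozen.S1422 G _ _ hG))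
    (h1423 : type_of% (@Cfsg.CfsgFrozen.S1423 G _ _ hG))
    (h1424 : type_of% (@Cfsg.CfsgFrozen.S1424 G _ _ hG))
    (h1426 : type_of% (@Cfsg.CfsgFrozen.S1426 G _ _ hG))
    (h1427 : type_of% (@Cfsg.CfsgFrozen.S1427 G _ _ hG))
    (h1428 : type_of% (@Cfsg.CfsgFrozen.S1428 G _ _ hG)) :
    ∀ M : Subgroup G, IsCoatom M → ∀ E : Subgroup G, IsComplIn E (sigmaCore M) M →
    ∀ E₃ : Subgroup G, IsPiHallOf (tau3 M) E₃ E → ∀ P : Subgroup G, P ≤ E → (Nat.card P).Prime →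
    ¬ P ≤ Subgroup.centralizer (E₃ : Set G) →
    sigmaCore M ⊓ Subgroup.centralizer (E₃ : Set G) = ⊥ :=
  p3 hG h1350 h1403 h1404 h1405 h1414 h1415 h1416 h1417 h1422 h1423 h1424 h1426 h1427 h1428
    (l4Prop hG h1403 h1405 h1407 h1414)
    (asymProp hG h1350 h1403 h1404 h1405 h1407 h1408 h1414 h1423 h1428)

/-- **B&G 13.11** (`Hyp1311 G`), closed modulo the σ-partition. -/
theorem hyp1311 [Finite G] (hG : IsMinSimpleOddOrder G)
    (h1350 : type_of% (@Cfsg.CfsgFrozen.S1350 G _ _ hG))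
    (h1403 : type_of% (@Cfsg.CfsgFrozen.S1403 G _ _ hG))
    (h1404 : type_of% (@Cfsg.CfsgFrozen.S1404 G _ _ hG))
    (h1405 : type_of% (@Cfsg.CfsgFrozen.S1405 G _ _ hG))
    (h1407 : type_of% (@Cfsg.CfsgFrozen.S1407 G _ _ hG))
    (h1408 : type_of% (@Cfsg.CfsgFrozen.S1408 G _ _ hG))
    (h1414 : type_of% (@Cfsg.CfsgFrozen.S1414 G _ _ hG))
    (h1415 : type_of% (@Cfsg.CfsgFrozen.S1415 G _ _ hG))
    (h1416 : type_of% (@Cfsg.CfsgFrozen.S1416 G _ _ hG))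
    (h1417 : type_of% (@Cfsg.CfsgFrozen.S1417 G _ _ hG))
    (h1418 : type_of% (@Cfsg.CfsgFrozen.S1418 G _ _ hG))
    (h1420 : type_of% (@Cfsg.CfsgFrozen.S1420 G _ _ hG))
    (h1422 : type_of% (@Cfsg.CfsgFrozen.S1422 G _ _ hG))
    (h1423 : type_of% (@Cfsg.CfsgFrozen.S1423 G _ _ hG))
    (h1424 : type_of% (@Cfsg.CfsgFrozen.S1424 G _ _ hG))
    (h1426 : type_of% (@Cfsg.CfsgFrozen.S1426 G _ _ hG))
    (h1427 : type_of% (@Cfsg.CfsgFrozen.S1427 G _ _ hG))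
    (h1428 : type_of% (@Cfsg.CfsgFrozen.S1428 G _ _ hG))
    (hSigma : ∀ M N : Subgroup G, IsCoatom M → IsCoatom N → (sigma M ∩ sigma N).Nonempty →
      ∃ g : G, N = M.map (MulAut.conj g).toMonoidHom) :
    Cfsg.Agent.Lib.Helper25.BG30.Hyp1311 G :=
  hyp1311_of_asym hG h1350 h1403 h1404 h1405 h1407 h1414 h1415 h1416 h1417 h1418 h1420 h1422
    h1423 h1424 h1426 h1427 h1428 hSigma
    (asymProp hG h1350 h1403 h1404 h1405 h1407 h1408 h1414 h1423 h1428)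

end Cfsg.Agent.Lib.Helper34.BG
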