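import Mathlib
import Cfsg.Prelude.Def_OddOrderLocal
import Cfsg.Agent.S1450
import Cfsg.Agent.S1451
import Cfsg.Agent.Lib.Helper61.BG9d
import Cfsg.Agent.Lib.Helper48.Generation
import Cfsg.Agent.Lib.Helper47.BG36LemmaNonab
import Cfsg.Agent.Lib.Helper72.BG8
import Cfsg.Agent.Lib.Helper35.BG.Basic
import Cfsg.Agent.Lib.Helper22.PComp
import Cfsg.Agent.Lib.Helper34.CoreAux

/-!
# Bender–Glauberman Lemma 9.5 (S1402): general lemmas

* `rank_two_generation`: two-step coprime generation for an elementary abelian group of order at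
  least `p ^ 3`.
* `centralizes_of_pRank_two`: in a solvable group `X` of odd order and `u`-rank at most two, a
  `u'`-element of `[X, X]` centralizes every `u`-subgroup of `X` that it normalizes.
* `exists_mem_inf_commutator_normalizer`: `A ∩ N(A)' ≠ 1` for `A ∈ SCN(P)`, `P` a Sylow subgroup
  (Burnside's transfer theorem).
-/

set_option autoImplicit false

namespace Cfsg.Agent.Lib.Helper34.BG

open Cfsg
open scoped Pointwise

universe u

section General

variable {G : Type u} [Group G]

/-- Conjugation by an element commuting with `u` preserves commuting with `u`. -/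
theorem commute_conj_iff {e u h : G} (heu : Commute e u) :
    Commute u h ↔ Commute u (e * h * e⁻¹) := by
  constructor
  · intro hh
    exact (heu.symm.mul_right hh).mul_right heu.symm.inv_right
  · intro hh
    have h1 : Commute u (e⁻¹ * (e * h * e⁻¹) * e) :=
      (heu.symm.inv_right.mul_right hh).mul_right heu.symm
    have e1 : e⁻¹ * (e * h * e⁻¹) * e = h := by group
    rwa [e1] at h1

/-- Two-step coprime generation: if an elementary abelian `p`-group `E` of order at least `p ^ 3`
normalizes the `p'`-group `R`, and `R` is not contained in `Y`, then some noncyclic `B ≤ E` has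
`C_R(B)` not contained in `Y`. -/
theorem rank_two_generation [Finite G] {p : ℕ} [Fact p.Prime] (E R Y : Subgroup G)
    (hE : IsElementaryAbelian p E) (hE3 : p ^ 3 ≤ Nat.card E) (hR : ¬ p ∣ Nat.card R)
    (hER : E ≤ Subgroup.normalizer (R : Set G)) (hRY : ¬ R ≤ Y) :
    ∃ B : Subgroup G, B ≤ E ∧ ¬ IsCyclic B ∧
      ¬ (R ⊓ Subgroup.centralizer (B : Set G) ≤ Y) := by
  have hp : p.Prime := Fact.out
  by_contra hcon
  push Not at hcon
  apply hRY
  have hcomm : ∀ x ∈ E, ∀ y ∈ E, x * y = y * x := fun x hx y hy =>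
    congrArg Subtype.val (hE.1.is_comm.comm ⟨x, hx⟩ ⟨y, hy⟩)
  have hexp : ∀ x ∈ E, x ^ p = 1 := hE.2
  have hp2 : p < p ^ 2 := by nlinarith [hp.one_lt]
  have hp3 : p ^ 2 < p ^ 3 := by
    have : p ^ 3 = p ^ 2 * p := by ring
    nlinarith [hp.one_lt, Nat.pos_of_ne_zero (pow_ne_zero 2 hp.ne_zero)]
  have hcardE : p < Nat.card E := by omega
  have hnc : ¬ IsCyclic E := Cfsg.Agent.Lib.Helper61.bg_not_isCyclic_of_EA hp hE hcardE
  have hEp : IsPGroup p E := Cfsg.Agent.Lib.Helper61.bg_isPGroup_of_isEA hE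
  apply Cfsg.Agent.Lib.Helper48.coprime_generation_le R E hcomm hexp hnc hR hER Y
  intro u hu hu1
  have hou : orderOf u = p := orderOf_eq_prime (hexp u hu) hu1
  have hcu : Nat.card (Subgroup.zpowers u) = p := by rw [Nat.card_zpowers, hou]
  have hzuE : Subgroup.zpowers u ≤ E := Subgroup.zpowers_le.mpr hu
  obtain ⟨a', ha'E, ha'u⟩ : ∃ a' ∈ E, a' ∉ Subgroup.zpowers u := by
    by_contra h
    push Not at h
    have h1 : E ≤ Subgroup.zpowers u := h
    have h2 := Subgroup.card_le_of_le h1
    omega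
  set D := Subgroup.zpowers u ⊔ Subgroup.zpowers a' with hD
  have hDE : D ≤ E := sup_le hzuE (Subgroup.zpowers_le.mpr ha'E)
  have hcD : Nat.card D ≤ p ^ 2 := by
    have hLE : Subgroup.zpowers a' ≤
        Subgroup.normalizer ((Subgroup.zpowers u : Subgroup G) : Set G) := by
      rw [Subgroup.zpowers_le]
      apply Subgroup.centralizer_le_normalizer
      rw [Subgroup.mem_centralizer_iff]
      intro h hh
      obtain ⟨k, rfl⟩ := Subgroup.mem_zpowers_iff.mp hh
      exact (Commute.zpow_left (hcomm u hu a' ha'E) k).eq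
    have h1 := Cfsg.Agent.Lib.Helper47.BG36.card_sup_dvd_mul (Subgroup.zpowers u)
      (Subgroup.zpowers a') hLE
    have h2 : Nat.card (Subgroup.zpowers a') ∣ p := by
      rw [Nat.card_zpowers]
      exact orderOf_dvd_of_pow_eq_one (hexp a' ha'E)
    have h3 : Nat.card D ∣ p ^ 2 := by
      rw [pow_two]
      exact h1.trans (by rw [hcu]; exact Nat.mul_dvd_mul_left p h2)
    exact Nat.le_of_dvd (pow_pos hp.pos 2) h3
  obtain ⟨b', hb'E, hb'D⟩ : ∃ b' ∈ E, b' ∉ D := by
    by_contra h
    push Not at h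
    have h1 : E ≤ D := h
    have h2 := Subgroup.card_le_of_le h1
    omega
  have hb'1 : b' ≠ 1 := fun h => hb'D (h ▸ D.one_mem)
  have hob : orderOf b' = p := orderOf_eq_prime (hexp b' hb'E) hb'1
  set R₁ := R ⊓ Subgroup.centralizer ({u} : Set G) with hR₁
  have hR₁card : ¬ p ∣ Nat.card R₁ := fun h =>
    hR (h.trans (Subgroup.card_dvd_of_le inf_le_left))
  have hER₁ : E ≤ Subgroup.normalizer (R₁ : Set G) := by
    intro e he
    rw [Subgroup.mem_normalizer_iff]
    intro h
    have hRn := (Subgroup.mem_normalizer_iff.mp (hER he)) h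
    have heu : Commute e u := hcomm e he u hu
    have hc : ∀ z : G, z ∈ Subgroup.centralizer ({u} : Set G) ↔ Commute u z := by
      intro z
      rw [Subgroup.mem_centralizer_iff]
      constructor
      · intro hz; exact hz u rfl
      · intro hz y hy
        rw [Set.mem_singleton_iff] at hy
        subst hy
        exact hz.eq
    rw [hR₁, Subgroup.mem_inf, Subgroup.mem_inf, hc, hc, ← commute_conj_iff heu, hRn]
  have key : ∀ w ∈ E, w ∉ Subgroup.zpowers u →
      R₁ ⊓ Subgroup.centralizer ({w} : Set G) ≤ Y := by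
    intro w hwE hwu
    set B := Subgroup.zpowers u ⊔ Subgroup.zpowers w with hB
    have hBE : B ≤ E := sup_le hzuE (Subgroup.zpowers_le.mpr hwE)
    have hBnc : ¬ IsCyclic B := by
      have hBea : IsElementaryAbelian p B :=
        Cfsg.Agent.Lib.Helper61.bg_isEA_of_forall
          (fun a ha b hb => hcomm a (hBE ha) b (hBE hb)) (fun a ha => hexp a (hBE ha))
      apply Cfsg.Agent.Lib.Helper61.bg_not_isCyclic_of_EA hp hBea
      have hlt : Subgroup.zpowers u < B := by
        refine lt_of_le_of_ne le_sup_left ?_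
        intro h
        apply hwu
        rw [h]
        exact (le_sup_right : Subgroup.zpowers w ≤ B) (Subgroup.mem_zpowers w)
      have := Cfsg.Agent.Lib.Helper35.BG.card_lt_of_lt hlt
      rwa [hcu] at this
    refine le_trans ?_ (hcon B hBE hBnc)
    intro x hx
    refine ⟨hx.1.1, ?_⟩
    show x ∈ Subgroup.centralizer (B : Set G)
    have hBx : B ≤ Subgroup.centralizer ({x} : Set G) := by
      refine sup_le ?_ ?_
      · rw [Subgroup.zpowers_le, Subgroup.mem_centralizer_iff]
        intro y hy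
        rw [Set.mem_singleton_iff] at hy
        subst hy
        exact ((Subgroup.mem_centralizer_iff.mp hx.1.2) u rfl).symm
      · rw [Subgroup.zpowers_le, Subgroup.mem_centralizer_iff]
        intro y hy
        rw [Set.mem_singleton_iff] at hy
        subst hy
        exact ((Subgroup.mem_centralizer_iff.mp hx.2) w rfl).symm
    rw [Subgroup.mem_centralizer_iff]
    intro h hh
    exact ((Subgroup.mem_centralizer_iff.mp (hBx hh)) x rfl).symm
  have hgen := Cfsg.Agent.Lib.Helper48.coprime_generation R₁ E hEp hR₁card hER₁ a' b' ha'E hb'E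
    (hcomm a' ha'E b' hb'E) (hexp a' ha'E) (hexp b' hb'E)
  refine hgen.trans (sup_le ?_ (iSup_le fun i => ?_))
  · exact key b' hb'E (fun h => hb'D ((le_sup_left : Subgroup.zpowers u ≤ D) h))
  · apply key (a' * b' ^ i) (E.mul_mem ha'E (E.pow_mem hb'E i))
    intro hmem
    by_cases hbi : b' ^ i = 1
    · rw [hbi, mul_one] at hmem
      exact ha'u hmem
    · have h1 : b' ^ i ∈ D := by
        have e1 : b' ^ i = a'⁻¹ * (a' * b' ^ i) := by group
        rw [e1]
        exact D.mul_mem (D.inv_mem ((le_sup_right : Subgroup.zpowers a' ≤ D)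
          (Subgroup.mem_zpowers a'))) ((le_sup_left : Subgroup.zpowers u ≤ D) hmem)
      have h2 : Subgroup.zpowers b' = Subgroup.zpowers (b' ^ i) :=
        Cfsg.Agent.Lib.Helper61.eq_zpowers_of_prime_card hp (Subgroup.zpowers b')
          (by rw [Nat.card_zpowers, hob]) (Subgroup.pow_mem _ (Subgroup.mem_zpowers b') i) hbi
      apply hb'D
      have h3 : b' ∈ Subgroup.zpowers (b' ^ i) := h2 ▸ Subgroup.mem_zpowers b'
      exact (Subgroup.zpowers_le.mpr h1) h3

/-- In a solvable group `X` of odd order and `u`-rank at most two, a `u'`-element of `[X, X]`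
centralizes every `u`-subgroup of `X` that it normalizes. -/
theorem centralizes_of_pRank_two [Finite G] (X : Subgroup G) (hXs : Group.IsSolvable X)
    (hXodd : Odd (Nat.card X)) (u : ℕ) [Fact u.Prime] (hr : PRankLE u 2 ↥X) (a : G)
    (ha : a ∈ ⁅X, X⁆) (hau : (orderOf a).Coprime u) (W : Subgroup G) (hWX : W ≤ X)
    (hW : IsPGroup u W) (haW : a ∈ Subgroup.normalizer (W : Set G)) :
    a ∈ Subgroup.centralizer (W : Set G) := by
  have hu : u.Prime := Fact.out
  rw [Subgroup.mem_centralizer_iff]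
  intro w hw
  by_cases huX : u ∣ Nat.card X
  swap
  · have hw1 : w = 1 := by
      obtain ⟨k, hk⟩ := (IsPGroup.iff_orderOf.mp hW) ⟨w, hw⟩
      rw [Subgroup.orderOf_mk] at hk
      have h1 : orderOf w ∣ Nat.card X := by
        have := orderOf_dvd_natCard (⟨w, hWX hw⟩ : ↥X)
        rwa [Subgroup.orderOf_mk] at this
      cases k with
      | zero =>
        rw [pow_zero] at hk
        exact orderOf_eq_one_iff.mp hk
      | succ k =>
        exfalso
        apply huX
        rw [hk] at h1
        exact (dvd_pow_self u (Nat.succ_ne_zero k)).trans h1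
    subst hw1
    simp
  have hmap : (commutator ↥X).map X.subtype = ⁅X, X⁆ := Subgroup.map_subtype_commutator X
  rw [← hmap] at ha
  obtain ⟨a', ha'C, rfl⟩ := ha
  obtain ⟨-, -, -, h4, -, -⟩ := Cfsg.Agent.S1450.result hXodd u huX hr
  set C : Subgroup ↥X := commutator ↥X with hC
  have hoa : orderOf (⟨a', ha'C⟩ : ↥C) = orderOf (X.subtype a') := by
    rw [Subgroup.orderOf_mk]
    exact (Subgroup.orderOf_coe a').symm
  have hL : Subgroup.zpowers (⟨a', ha'C⟩ : ↥C) ≤ Cfsg.pPrimeCore u ↥C := by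
    apply h4
    rw [Nat.card_zpowers, hoa]
    exact hau
  have ha''N : (⟨a', ha'C⟩ : ↥C) ∈ Cfsg.pPrimeCore u ↥C := hL (Subgroup.mem_zpowers _)
  set N₁ : Subgroup ↥X := (Cfsg.pPrimeCore u ↥C).map C.subtype with hN₁
  have hN₁n : N₁.Normal := ConjAct.normal_of_characteristic_of_normal
  have hN₁c : (Nat.card N₁).Coprime u := by
    rw [hN₁, Subgroup.card_map_of_injective C.subtype_injective]
    exact Cfsg.Agent.Lib.Helper34.card_pPrimeCore_coprime u ↥C
  have ha'N : a' ∈ N₁ := ⟨⟨a', ha'C⟩, ha''N, rfl⟩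
  have hc : (⟨w, hWX hw⟩ : ↥X) * a' * (⟨w, hWX hw⟩ : ↥X)⁻¹ * a'⁻¹ ∈ N₁ :=
    N₁.mul_mem (hN₁n.conj_mem a' ha'N _) (N₁.inv_mem ha'N)
  have hcW : w * (X.subtype a') * w⁻¹ * (X.subtype a')⁻¹ ∈ W := by
    have h1 : (X.subtype a') * w⁻¹ * (X.subtype a')⁻¹ ∈ W :=
      (Subgroup.mem_normalizer_iff.mp haW w⁻¹).mp (W.inv_mem hw)
    have e1 : w * (X.subtype a') * w⁻¹ * (X.subtype a')⁻¹ =
        w * ((X.subtype a') * w⁻¹ * (X.subtype a')⁻¹) := by group
    rw [e1]
    exact W.mul_mem hw h1
  have ho1 : orderOf (w * (X.subtype a') * w⁻¹ * (X.subtype a')⁻¹) ∣ Nat.card N₁ := by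
    have h := Subgroup.orderOf_dvd_natCard N₁ hc
    have h2 : orderOf ((⟨w, hWX hw⟩ : ↥X) * a' * (⟨w, hWX hw⟩ : ↥X)⁻¹ * a'⁻¹) =
        orderOf (w * (X.subtype a') * w⁻¹ * (X.subtype a')⁻¹) := by
      rw [← Subgroup.orderOf_coe]
      rfl
    rwa [h2] at h
  obtain ⟨k, hk⟩ := (IsPGroup.iff_orderOf.mp hW) ⟨_, hcW⟩
  rw [Subgroup.orderOf_mk] at hk
  have h1 : w * (X.subtype a') * w⁻¹ * (X.subtype a')⁻¹ = 1 := by
    have hcop : (orderOf (w * (X.subtype a') * w⁻¹ * (X.subtype a')⁻¹)).Coprime u :=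
      Nat.Coprime.coprime_dvd_left ho1 hN₁c
    rw [hk] at hcop
    cases k with
    | zero =>
      rw [pow_zero] at hk
      exact orderOf_eq_one_iff.mp hk
    | succ k =>
      exfalso
      have := Nat.Coprime.eq_one_of_dvd hcop.symm (dvd_pow_self u (Nat.succ_ne_zero k))
      exact hu.one_lt.ne' this
  calc w * X.subtype a' = (w * (X.subtype a') * w⁻¹ * (X.subtype a')⁻¹) * (X.subtype a' * w) := by
        group
    _ = X.subtype a' * w := by rw [h1, one_mul]

/-- `A ∩ N(A)' ≠ 1` for `A ∈ SCN(P)`, `P` a Sylow `p`-subgroup of a minimal simple group of odd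
order (Burnside's transfer theorem). -/
theorem exists_mem_inf_commutator_normalizer [Finite G] (hG : IsMinSimpleOddOrder G) (p : ℕ)
    [Fact p.Prime] (P : Sylow p G) (A : Subgroup G) (hA : IsSCN (P : Subgroup G) A)
    (hA1 : A ≠ ⊥) :
    ∃ a ∈ A, a ∈ ⁅Subgroup.normalizer (A : Set G), Subgroup.normalizer (A : Set G)⁆ ∧
      a ≠ 1 := by
  by_contra hcon
  push Not at hcon
  have hNC : Subgroup.normalizer (A : Set G) ≤ Subgroup.centralizer (A : Set G) := by
    intro n hn
    rw [Subgroup.mem_centralizer_iff]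
    intro x hx
    have h1 : n * x * n⁻¹ ∈ A := (Subgroup.mem_normalizer_iff.mp hn x).mp hx
    have h2 : n * x * n⁻¹ * x⁻¹ ∈ A := A.mul_mem h1 (A.inv_mem hx)
    have h3 : n * x * n⁻¹ * x⁻¹ ∈
        ⁅Subgroup.normalizer (A : Set G), Subgroup.normalizer (A : Set G)⁆ :=
      Subgroup.commutator_mem_commutator hn (Subgroup.le_normalizer hx)
    have h4 := hcon _ h2 h3
    calc x * n = (n * x * n⁻¹ * x⁻¹)⁻¹ * (n * x) := by group
      _ = n * x := by rw [h4, inv_one, one_mul]
  have hPA : (P : Subgroup G) = A := by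
    have h1 : (P : Subgroup G) ≤ Subgroup.centralizer (A : Set G) := hA.2.1.trans hNC
    have h2 := hA.2.2
    rw [inf_eq_left.mpr h1] at h2
    exact h2
  have hP : Subgroup.normalizer ((P : Subgroup G) : Set G) ≤
      Subgroup.centralizer ((P : Subgroup G) : Set G) := by
    rw [hPA]
    exact hNC
  have hcompl := MonoidHom.ker_transferSylow_isComplement' P hP
  have hsimple : IsSimpleGroup G := hG.2.1
  rcases (MonoidHom.normal_ker (MonoidHom.transferSylow P hP)).eq_bot_or_eq_top with h | h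
  · rw [h, Subgroup.isComplement'_bot_left] at hcompl
    exact Cfsg.Agent.Lib.Helper72.BG8.isPGroup_ne_top hG P.isPGroup' hcompl
  · rw [h, Subgroup.isComplement'_top_left] at hcompl
    rw [hcompl] at hPA
    exact hA1 hPA.symm

end General

end Cfsg.Agent.Lib.Helper34.BG
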