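import Mathlib
import Cfsg.Prelude.Def_OddOrderLocal
import Cfsg.Agent.S1393
import Cfsg.Agent.S1395
import Cfsg.Agent.S1396
import Cfsg.Agent.S1398
import Cfsg.Agent.S1401
import Cfsg.Agent.S0541
import Cfsg.Agent.Lib.Helper34.BG.S1402A

/-!
# Bender–Glauberman Lemma 9.5 (S1402): the two types of maximal subgroups over `A * K`

`A ∈ SCN_3(P)`, `K = O_{p'}(C(A))`.  A maximal subgroup `L ≥ A` with `r(F(L)) ≤ 2` is the
normalizer of a maximal `A`-invariant `q`-subgroup (`typeA_struct`).  A maximal subgroup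
`M ≥ A * K` with `r_u(F(M)) ≥ 3` contains every `A`-invariant `u`-subgroup, the normalizer of
every `p`-subgroup containing `A`, controls fusion of `A`, and every other maximal subgroup
containing `A` has `u`-rank at most two (`TypeB`).
-/

set_option autoImplicit false

namespace Cfsg.Agent.Lib.Helper34.BG

open Cfsg
open scoped Pointwise

universe u

section MinSimple

variable {G : Type u} [Group G] [Finite G]

/-- Membership in `π(A)'` for a nontrivial `p`-group `A`. -/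
theorem mem_primesNotDvd_iff {p : ℕ} [Fact p.Prime] {A : Subgroup G} (hAp : IsPGroup p A)
    (hA1 : A ≠ ⊥) (x : ℕ) : x ∈ primesNotDvd (Nat.card A) ↔ x.Prime ∧ x ≠ p := by
  have hp : p.Prime := Fact.out
  obtain ⟨n, hn⟩ := IsPGroup.iff_card.mp hAp
  have hn0 : n ≠ 0 := by
    rintro rfl
    rw [pow_zero] at hn
    exact hA1 (Subgroup.card_eq_one.mp hn)
  unfold primesNotDvd
  rw [Set.mem_ofPred_eq, hn]
  constructor
  · rintro ⟨hx, hnd⟩
    refine ⟨hx, ?_⟩
    rintro rfl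
    exact hnd (dvd_pow_self _ hn0)
  · rintro ⟨hx, hne⟩
    refine ⟨hx, ?_⟩
    intro hd
    exact hne ((Nat.prime_dvd_prime_iff_eq hx hp).mp (hx.dvd_of_dvd_pow hd))

/-- A maximal subgroup `L ≥ A` whose Fitting subgroup has rank at most two is the normalizer of
a nontrivial maximal `A`-invariant `q`-subgroup `Q`, where `q` is the largest prime divisor of
`|O_{p'}(L)|`. -/
theorem typeA_struct (hG : IsMinSimpleOddOrder G) (p : ℕ) [Fact p.Prime]
    (A : Subgroup G) (hAp : IsPGroup p A) (hA1 : A ≠ ⊥) (hA3 : ¬ PRankLE p 2 ↥A)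
    (hTH : TransitivityHypothesis A)
    (hF : ∀ H : Subgroup G, IsCoatom H → PRankLE p 2 ↥(fittingOf H))
    (L : Subgroup G) (hL : IsCoatom L) (hAL : A ≤ L) (hr : RankLE 2 ↥(fittingOf L)) :
    ∃ (q : ℕ) (Q : Subgroup G), q.Prime ∧ q ≠ p ∧ Q ∈ maxInvSubgroups ⊤ A {q} ∧ Q ≠ ⊥ ∧
      Subgroup.normalizer (Q : Set G) = L ∧
      ∀ Y ∈ invSubgroups L A (primesNotDvd (Nat.card A)), ∀ x : ℕ, x.Prime →
        x ∣ Nat.card Y → x ≤ q := by
  have hp : p.Prime := Fact.out
  haveI : Group.IsSolvable ↥L := hG.2.2.2 L hL.1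
  have hodd : Odd (Nat.card ↥L) := Odd.of_dvd_nat hG.1 (Subgroup.card_subgroup_dvd_card L)
  have hr' : RankLE 2 ↥(fittingSubgroup ↥L) := by
    intro x hx
    exact Cfsg.Agent.Lib.Helper61.bg_pRankLE_of_injective
      ((fittingSubgroup ↥L).equivMapOfInjective L.subtype L.subtype_injective).toMonoidHom
      (MulEquiv.injective _) (hr x hx)
  obtain ⟨hnil, -, htower⟩ := Cfsg.Agent.S1451.result hodd (Or.inr hr')
  set π := primesNotDvd (Nat.card A) with hπ
  set W : Subgroup ↥L := piCore π ↥L with hW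
  have hcardW : Nat.card (piCoreOf π L) = Nat.card W := by
    unfold piCoreOf
    rw [Subgroup.card_map_of_injective L.subtype_injective]
  have hWπ : ∀ x : ℕ, x.Prime → x ∣ Nat.card W → x ∈ π := by
    intro x hx hxd
    apply Cfsg.Agent.Lib.Helper23.piCoreOf_isPi π L x hx
    rw [hcardW]
    exact hxd
  have hWne : W ≠ ⊥ := by
    intro hWbot
    set C : Subgroup ↥L := commutator ↥L with hC
    obtain ⟨Sp, hSp⟩ := Cfsg.Agent.Lib.Helper23.exists_isRPart C hnil p
    have hCSp : C ≤ Sp := by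
      apply Cfsg.Agent.Lib.Helper23.le_of_pElements
      intro r hr hrdvd x hx hxr
      by_cases hrp : r = p
      · subst hrp
        exact hSp.2.2 x hx hxr
      · haveI : Fact r.Prime := ⟨hr⟩
        obtain ⟨Sr, hSr⟩ := Cfsg.Agent.Lib.Helper23.exists_isRPart C hnil r
        have hxSr : x ∈ Sr := hSr.2.2 x hx hxr
        have hSrn : Sr.Normal := by
          have h1 := hSr.normalizer_le
          rw [Subgroup.normalizer_eq_top] at h1
          exact Subgroup.normalizer_eq_top_iff.mp (top_le_iff.mp h1)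
        have hSrW : Sr ≤ W := by
          apply le_sSup
          refine ⟨hSrn, ?_⟩
          intro x' hx' hx'd
          obtain ⟨n, hn⟩ := IsPGroup.iff_card.mp hSr.2.1
          rw [hn] at hx'd
          have h2 : x' = r := (Nat.prime_dvd_prime_iff_eq hx' hr).mp (hx'.dvd_of_dvd_pow hx'd)
          rw [h2]
          exact (mem_primesNotDvd_iff hAp hA1 r).mpr ⟨hr, hrp⟩
        have hx1 : x ∈ (⊥ : Subgroup ↥L) := hWbot ▸ hSrW hxSr
        rw [Subgroup.mem_bot] at hx1
        rw [hx1]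
        exact Sp.one_mem
    have hCp : IsPGroup p C := hSp.2.1.to_le hCSp
    have hAp' : IsPGroup p (A.subgroupOf L) :=
      hAp.comap_of_injective L.subtype L.subtype_injective
    obtain ⟨T, hT⟩ := hAp'.exists_le_sylow
    have hCT : C ≤ (T : Subgroup ↥L) := Cfsg.Agent.Lib.Helper72.BG8.le_sylow_of_normal T C hCp
    have hTn : (T : Subgroup ↥L).Normal := Subgroup.Normal.of_commutator_le (h := hCT)
    have hTnil : Group.IsNilpotent (T : Subgroup ↥L) := T.isPGroup'.isNilpotent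
    have hTF : (T : Subgroup ↥L) ≤ fittingSubgroup ↥L := le_sSup ⟨hTn, hTnil⟩
    have hAF : A ≤ fittingOf L := by
      intro a ha
      exact ⟨⟨a, hAL ha⟩, hTF (hT (Subgroup.mem_subgroupOf.mpr ha)), rfl⟩
    obtain ⟨D, hD, hDA, hDc⟩ := Cfsg.Agent.Lib.Helper61.bg_exists_EA_of_not_pRankLE hA3
    exact Cfsg.Agent.Lib.Helper61.bg_not_pRankLE_of_EA hD (hDA.trans hAF) hDc (hF L hL)
  -- the largest prime divisor of `|W|`
  have hW1 : Nat.card W ≠ 1 := fun h => hWne (Subgroup.card_eq_one.mp h)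
  have hne : (Nat.card W).primeFactors.Nonempty := by
    rw [Nat.nonempty_primeFactors]
    have : 0 < Nat.card W := Nat.card_pos
    omega
  obtain ⟨q, hqmem, hqmax⟩ := (Nat.card W).primeFactors.exists_max_image id hne
  have hq : q.Prime := Nat.prime_of_mem_primeFactors hqmem
  have hqW : q ∣ Nat.card W := Nat.dvd_of_mem_primeFactors hqmem
  haveI : Fact q.Prime := ⟨hq⟩
  have hqmax' : ∀ x : ℕ, x.Prime → x ∣ Nat.card W → x ≤ q := by
    intro x hx hxd
    exact hqmax x (Nat.mem_primeFactors.mpr ⟨hx, hxd, Nat.card_pos.ne'⟩)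
  have hqπ : q ∈ π := hWπ q hq hqW
  have hqp : q ≠ p := ((mem_primesNotDvd_iff hAp hA1 q).mp hqπ).2
  obtain ⟨N, hNchar, hNhall⟩ := htower (q - 1)
  haveI hNn : N.Normal := by infer_instance
  have hqidx : ¬ q ∣ N.index := hNhall.2 q hq ⟨hq, by have := hq.pos; omega⟩
  have hqN : ∀ r : ↥L, (∃ k : ℕ, orderOf r = q ^ k) → r ∈ N := by
    rintro r ⟨k, hk⟩
    have hcop : (N.index).Coprime (orderOf r) := by
      rw [hk]
      exact Nat.Coprime.pow_right k ((Nat.Prime.coprime_iff_not_dvd hq).mpr hqidx).symm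
    obtain ⟨m, hm⟩ := exists_pow_eq_self_of_coprime hcop
    rw [← hm]
    exact N.pow_mem (N.pow_index_mem r) m
  set Q₀ : Subgroup ↥L := N ⊓ W with hQ₀
  have hQ₀n : Q₀.Normal := by infer_instance
  have hQ₀q : IsPGroup q Q₀ := by
    rw [IsPGroup.iff_card]
    have hpos : Nat.card Q₀ ≠ 0 := Nat.card_pos.ne'
    refine ⟨(Nat.card Q₀).primeFactorsList.length, ?_⟩
    apply Nat.eq_prime_pow_of_unique_prime_dvd hpos
    intro x hx hxd
    have h1 : x ∣ Nat.card N := hxd.trans (Subgroup.card_dvd_of_le inf_le_left)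
    have h2 : x ∣ Nat.card W := hxd.trans (Subgroup.card_dvd_of_le inf_le_right)
    have h3 : q - 1 < x := (hNhall.1 x hx h1).2
    have h4 := hqmax' x hx h2
    omega
  set Q : Subgroup G := Q₀.map L.subtype with hQdef
  have hQq : IsPGroup q Q := hQ₀q.map _
  have hqsub : ∀ R : Subgroup G, IsPGroup q R → R ≤ piCoreOf π L → R ≤ Q := by
    intro R hR hRW r hr
    obtain ⟨r', hr'W, hr'⟩ := hRW hr
    obtain ⟨k, hk⟩ := (IsPGroup.iff_orderOf.mp hR) ⟨r, hr⟩
    rw [Subgroup.orderOf_mk] at hk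
    have hk' : orderOf r' = q ^ k := by
      rw [← hk, ← hr']
      exact (Subgroup.orderOf_coe r').symm
    exact ⟨r', ⟨hqN r' ⟨k, hk'⟩, hr'W⟩, hr'⟩
  have hQ₀ne : Q₀ ≠ ⊥ := by
    obtain ⟨r, hr⟩ := exists_prime_orderOf_dvd_card' q hqW
    intro hbot
    have h1 : (r : ↥L) ∈ Q₀ :=
      ⟨hqN r ⟨1, by rw [Subgroup.orderOf_coe, hr, pow_one]⟩, r.2⟩
    rw [hbot, Subgroup.mem_bot] at h1
    have h2 : r = 1 := Subtype.ext h1
    rw [h2, orderOf_one] at hr
    exact hq.one_lt.ne hr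
  have hQne : Q ≠ ⊥ := fun h =>
    hQ₀ne ((Subgroup.map_eq_bot_iff_of_injective _ L.subtype_injective).mp h)
  have hLQ : L ≤ Subgroup.normalizer (Q : Set G) :=
    Cfsg.Agent.Lib.Helper23.le_normalizer_map_subtype_of_normal Q₀ hQ₀n
  have hQtop : Q ≠ ⊤ := Cfsg.Agent.Lib.Helper72.BG8.isPGroup_ne_top hG hQq
  have hNQ : Subgroup.normalizer (Q : Set G) = L :=
    Cfsg.Agent.Lib.Helper72.BG8.normalizer_eq_of_coatom_le hG L hL hQne hQtop hLQ
  have hQinv : Q ∈ invSubgroups ⊤ A {q} :=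
    Cfsg.Agent.Lib.Helper23.mem_inv_of_isPGroup le_top hQq (hAL.trans hLQ)
  refine ⟨q, Q, hq, hqp, ⟨hQinv, ?_⟩, hQne, hNQ, ?_⟩
  · intro R hR hQR
    by_contra hne
    have hRq : IsPGroup q R := Cfsg.Agent.Lib.Helper23.isPGroup_of_mem_inv hR
    have hlt : Q < R := lt_of_le_of_ne hQR (Ne.symm hne)
    have hlt2 := Cfsg.Agent.Lib.Helper23.lt_inf_normalizer_of_pGroup hRq hlt
    have hR₁L : R ⊓ Subgroup.normalizer (Q : Set G) ≤ L := by
      rw [hNQ]
      exact inf_le_right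
    have hR₁q : IsPGroup q (R ⊓ Subgroup.normalizer (Q : Set G) : Subgroup G) :=
      hRq.to_le inf_le_left
    have hAR₁ : A ≤ Subgroup.normalizer
        ((R ⊓ Subgroup.normalizer (Q : Set G) : Subgroup G) : Set G) := by
      refine le_trans ?_ (Cfsg.Agent.Lib.Helper61.normalizer_inf_le_normalizer_inf R
        (Subgroup.normalizer (Q : Set G)))
      exact le_inf hR.2.2 ((hAL.trans hLQ).trans Subgroup.le_normalizer)
    have hR₁inv : (R ⊓ Subgroup.normalizer (Q : Set G) : Subgroup G) ∈ invSubgroups L A π := by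
      refine ⟨hR₁L, ?_, hAR₁⟩
      intro x hx hxd
      obtain ⟨n, hn⟩ := IsPGroup.iff_card.mp hR₁q
      rw [hn] at hxd
      have h2 : x = q := (Nat.prime_dvd_prime_iff_eq hx hq).mp (hx.dvd_of_dvd_pow hxd)
      rw [h2]
      exact hqπ
    have h1 := Cfsg.Agent.Lib.Helper23.le_piCoreOf_of_mem_inv hTH hL.1 hAL hR₁inv
    have h2 := hqsub _ hR₁q h1
    exact absurd h2 (not_le_of_gt hlt2)
  · intro Y hY x hx hxd
    have h1 := Cfsg.Agent.Lib.Helper23.le_piCoreOf_of_mem_inv hTH hL.1 hAL hY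
    have h2 : Nat.card Y ∣ Nat.card W := by
      rw [← hcardW]
      exact Subgroup.card_dvd_of_le h1
    exact hqmax' x hx (hxd.trans h2)

end MinSimple

end Cfsg.Agent.Lib.Helper34.BG
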