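import Mathlib
import Cfsg.Prelude.Def_OddOrderLocal
import Cfsg.Agent.Lib.Helper34.BG.S1402B

/-!
# Bender–Glauberman Lemma 9.5 (S1402): maximal subgroups of type (B) over `A * K`
-/

set_option autoImplicit false

namespace Cfsg.Agent.Lib.Helper34.BG

open Cfsg
open scoped Pointwise

universe u

section MinSimple

variable {G : Type u} [Group G] [Finite G]

/-- `K = O_{p'}(C(A))`. -/
abbrev KK (A : Subgroup G) : Subgroup G :=
  piCoreOf (primesNotDvd (Nat.card A)) (Subgroup.centralizer (A : Set G))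

/-- Standing hypotheses of the proof of Lemma 9.5. -/
structure Ctx (G : Type u) [Group G] (p : ℕ) (A : Subgroup G) : Prop where
  hG : IsMinSimpleOddOrder G
  hAp : IsPGroup p A
  hA1 : A ≠ ⊥
  hAc : ∀ a ∈ A, ∀ b ∈ A, a * b = b * a
  hA3 : ¬ PRankLE p 2 ↥A
  hTH : TransitivityHypothesis A
  htr : ∀ q : ℕ, q.Prime → q ≠ p → ∀ Q₁ ∈ maxInvSubgroups ⊤ A {q},
      ∀ Q₂ ∈ maxInvSubgroups ⊤ A {q},
      ∃ k ∈ piCoreOf (primesNotDvd (Nat.card A)) (Subgroup.centralizer (A : Set G)),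
        Q₂ = Q₁.map (MulAut.conj k).toMonoidHom
  hF : ∀ H : Subgroup G, IsCoatom H → PRankLE p 2 ↥(fittingOf H)

/-- A maximal subgroup `M ≥ A * K` with a normal `u`-subgroup `V` that is a uniqueness
subgroup, `u ≠ p`, such that elementary abelian `u`-subgroups of order at least `u ^ 3` are
uniqueness subgroups. -/
structure TypeB (p : ℕ) (A M : Subgroup G) (u : ℕ) (V : Subgroup G) : Prop where
  hM : IsCoatom M
  hAM : A ≤ M
  hKM : KK A ≤ M
  hu : u.Prime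
  hup : u ≠ p
  hVM : V ≤ M
  hMV : M ≤ Subgroup.normalizer (V : Set G)
  hVu : IsPGroup u V
  hVU : InUniqueMaximal V
  hV1 : V ≠ ⊥
  hU3 : ∀ U : Subgroup G, IsElementaryAbelian u U → u ^ 2 < Nat.card U → InUniqueMaximal U

theorem isPGroup_zpowers_of_pow_eq {u : ℕ} (hu : u.Prime) {x : G} (hx : x ^ u = 1) :
    IsPGroup u (Subgroup.zpowers x) := by
  haveI : Fact u.Prime := ⟨hu⟩
  have h1 : orderOf x ∣ u := orderOf_dvd_of_pow_eq_one hx
  rcases (Nat.dvd_prime hu).mp h1 with h | h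
  · exact IsPGroup.of_card (n := 0) (by rw [Nat.card_zpowers, h, pow_zero])
  · exact IsPGroup.of_card (n := 1) (by rw [Nat.card_zpowers, h, pow_one])

theorem centralizer_singleton_ne_top (hG : IsMinSimpleOddOrder G) {b : G} (hb : b ≠ 1) :
    Subgroup.centralizer ({b} : Set G) ≠ ⊤ := by
  intro htop
  have h1 : Subgroup.zpowers b ≠ ⊥ := by
    intro h
    exact hb (Subgroup.zpowers_eq_bot.mp h)
  apply Cfsg.Agent.Lib.Helper61.bg_centralizer_ne_top hG.2.1 hG.2.2.1 h1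
  exact top_le_iff.mp
    (htop ▸ Cfsg.Agent.Lib.Helper61.centralizer_singleton_le_centralizer_zpowers b)

theorem dvd_card_of_isPGroup_ne_bot {q : ℕ} [Fact q.Prime] {Y : Subgroup G} (hY : IsPGroup q Y)
    (hY1 : Y ≠ ⊥) : q ∣ Nat.card Y := by
  obtain ⟨n, hn⟩ := IsPGroup.iff_card.mp hY
  cases n with
  | zero =>
    rw [pow_zero] at hn
    exact absurd (Subgroup.card_eq_one.mp hn) hY1
  | succ n =>
    rw [hn]
    exact dvd_pow_self q (Nat.succ_ne_zero n)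

theorem eq_of_prime_dvd_card_isPGroup {q x : ℕ} [Fact q.Prime] {Y : Subgroup G}
    (hY : IsPGroup q Y) (hx : x.Prime) (hxd : x ∣ Nat.card Y) : x = q := by
  obtain ⟨n, hn⟩ := IsPGroup.iff_card.mp hY
  rw [hn] at hxd
  exact (Nat.prime_dvd_prime_iff_eq hx Fact.out).mp (hx.dvd_of_dvd_pow hxd)

variable {p : ℕ} [Fact p.Prime] {A M V : Subgroup G} {u : ℕ}

theorem TypeB.maxInv (hC : Ctx G p A) (hB : TypeB p A M u V) :
    ∀ S ∈ maxInvSubgroups ⊤ A {u}, S ≤ M ∧ InUniqueMaximal S := by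
  haveI : Fact u.Prime := ⟨hB.hu⟩
  have hVinv : V ∈ invSubgroups ⊤ A {u} :=
    Cfsg.Agent.Lib.Helper23.mem_inv_of_isPGroup le_top hB.hVu (hB.hAM.trans hB.hMV)
  obtain ⟨S₀, hS₀, hVS₀⟩ := Cfsg.Agent.Lib.Helper23.exists_maxInv_ge hVinv
  have hS₀u : IsPGroup u S₀ := Cfsg.Agent.Lib.Helper23.isPGroup_of_mem_inv hS₀.1
  have hS₀top : S₀ ≠ ⊤ := Cfsg.Agent.Lib.Helper72.BG8.isPGroup_ne_top hC.hG hS₀u
  have hS₀U : InUniqueMaximal S₀ :=
    Cfsg.Agent.Lib.Helper61.bg_unique_of_le' hB.hVU hVS₀ hS₀top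
  have hS₀M : S₀ ≤ M := by
    obtain ⟨D, hD, hSD⟩ := Cfsg.Agent.Lib.Helper61.bg_exists_isCoatom_ge hS₀top
    have h1 := Cfsg.Agent.Lib.Helper61.bg_unique_eq hB.hVU hD (hVS₀.trans hSD) hB.hM hB.hVM
    rw [← h1]
    exact hSD
  intro S hS
  obtain ⟨k, hk, hSk⟩ := hC.htr u hB.hu hB.hup S₀ hS₀ S hS
  have hkM : k ∈ M := hB.hKM hk
  refine ⟨?_, ?_⟩
  · rw [hSk]
    intro x hx
    rw [Cfsg.Agent.Lib.Helper23.mem_mapConj] at hx
    have h1 : k⁻¹ * x * k ∈ M := hS₀M hx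
    have e : x = k * (k⁻¹ * x * k) * k⁻¹ := by group
    rw [e]
    exact M.mul_mem (M.mul_mem hkM h1) (M.inv_mem hkM)
  · rw [hSk]
    exact Cfsg.Agent.Lib.Helper61.bg_unique_mapConj hS₀U k

theorem TypeB.inv_le (hC : Ctx G p A) (hB : TypeB p A M u V) (Y : Subgroup G)
    (hY : Y ∈ invSubgroups ⊤ A {u}) : Y ≤ M := by
  obtain ⟨S, hS, hYS⟩ := Cfsg.Agent.Lib.Helper23.exists_maxInv_ge hY
  exact hYS.trans (hB.maxInv hC S hS).1

theorem TypeB.normalizer_le (hC : Ctx G p A) (hB : TypeB p A M u V) (T : Subgroup G)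
    (hT : IsPGroup p T) (hAT : A ≤ T) : Subgroup.normalizer (T : Set G) ≤ M := by
  have hp : p.Prime := Fact.out
  haveI : Fact u.Prime := ⟨hB.hu⟩
  have hTtop : T ≠ ⊤ := Cfsg.Agent.Lib.Helper72.BG8.isPGroup_ne_top hC.hG hT
  have hpA : p ∣ Nat.card A := dvd_card_of_isPGroup_ne_bot hC.hAp hC.hA1
  have hPπ : ∀ r : ℕ, r.Prime → r ∣ Nat.card T → r ∣ Nat.card A := by
    intro r hr hrd
    rw [eq_of_prime_dvd_card_isPGroup hT hr hrd]
    exact hpA
  have huA : ¬ u ∣ Nat.card A :=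
    ((mem_primesNotDvd_iff hC.hAp hC.hA1 u).mpr ⟨hB.hu, hB.hup⟩).2
  have hsn : (A.subgroupOf T).IsSubnormal := by
    haveI : Group.IsNilpotent T := hT.isNilpotent
    exact Cfsg.Agent.S0541.isSubnormal_of_isNilpotent _
  obtain ⟨h1, -, hsub, hd⟩ := Cfsg.Agent.S1395.result hC.hG A hC.hTH u hB.hu huA T hTtop hPπ hAT
    hsn (hC.htr u hB.hu hB.hup)
  have hbot : (⊥ : Subgroup G) ∈ invSubgroups ⊤ T {u} := by
    refine ⟨bot_le, ?_, ?_⟩
    · intro x hx hxd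
      rw [Subgroup.card_bot] at hxd
      exact absurd (Nat.dvd_one.mp hxd) hx.one_lt.ne'
    · intro t _
      rw [Subgroup.mem_normalizer_iff]
      intro h
      simp only [Subgroup.mem_bot]
      constructor
      · rintro rfl
        group
      · intro h1
        have e : h = t⁻¹ * (t * h * t⁻¹) * t := by group
        rw [e, h1]
        group
  obtain ⟨Q, hQ, -⟩ := Cfsg.Agent.Lib.Helper23.exists_maxInv_ge hbot
  have hQA : Q ∈ maxInvSubgroups ⊤ A {u} := hsub hQ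
  obtain ⟨hQM, hQU⟩ := hB.maxInv hC Q hQA
  have hQ1 : Q ≠ ⊥ := by
    intro hQbot
    have hVinv : V ∈ invSubgroups ⊤ A {u} :=
      Cfsg.Agent.Lib.Helper23.mem_inv_of_isPGroup le_top hB.hVu (hB.hAM.trans hB.hMV)
    obtain ⟨S₀, hS₀, hVS₀⟩ := Cfsg.Agent.Lib.Helper23.exists_maxInv_ge hVinv
    obtain ⟨k, -, hSk⟩ := hC.htr u hB.hu hB.hup Q hQA S₀ hS₀
    rw [hQbot, Subgroup.map_bot] at hSk
    rw [hSk, le_bot_iff] at hVS₀
    exact hB.hV1 hVS₀
  have hQu : IsPGroup u Q := Cfsg.Agent.Lib.Helper23.isPGroup_of_mem_inv hQ.1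
  have hNQtop : Subgroup.normalizer (Q : Set G) ≠ ⊤ :=
    Cfsg.Agent.Lib.Helper72.BG8.normalizer_ne_top_of_isPGroup hC.hG hQu hQ1
  have hNQM : Subgroup.normalizer (Q : Set G) ≤ M := by
    obtain ⟨D, hD, hND⟩ := Cfsg.Agent.Lib.Helper61.bg_exists_isCoatom_ge hNQtop
    have h2 := Cfsg.Agent.Lib.Helper61.bg_unique_eq hQU hD (Subgroup.le_normalizer.trans hND)
      hB.hM hQM
    rw [← h2]
    exact hND
  have hKT : piCoreOf (primesNotDvd (Nat.card A)) (Subgroup.centralizer (T : Set G)) ≤ M := by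
    rw [← h1]
    exact inf_le_left.trans hB.hKM
  rw [(hd Q hQ).2]
  exact sup_le hKT (inf_le_right.trans hNQM)

theorem TypeB.fusion (hC : Ctx G p A) (hB : TypeB p A M u V) (g : G)
    (hg : A.map (MulAut.conj g).toMonoidHom ≤ M) : g ∈ M := by
  haveI : Fact u.Prime := ⟨hB.hu⟩
  have hAgp : IsPGroup p (A.map (MulAut.conj g).toMonoidHom) := hC.hAp.map _
  obtain ⟨T₁, hAT₁, hT₁⟩ := Cfsg.Agent.Lib.Helper61.exists_isSylIn_ge hAgp hg
  obtain ⟨T₂, hAT₂, hT₂⟩ := Cfsg.Agent.Lib.Helper61.exists_isSylIn_ge hC.hAp hB.hAM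
  obtain ⟨m, hmM, hT₂eq⟩ := hT₁.exists_conj hT₂
  have hAh : A.map (MulAut.conj (m * g)).toMonoidHom ≤ T₂ := by
    rw [← Cfsg.Agent.Lib.Helper23.mapConj_mul, hT₂eq]
    exact Subgroup.map_mono hAT₁
  have hAT₃ : A ≤ T₂.map (MulAut.conj (m * g)⁻¹).toMonoidHom := by
    have h1 := Subgroup.map_mono (f := (MulAut.conj (m * g)⁻¹).toMonoidHom) hAh
    rwa [Cfsg.Agent.Lib.Helper23.mapConj_mul, inv_mul_cancel,
      Cfsg.Agent.Lib.Helper23.mapConj_one] at h1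
  have hT₃p : IsPGroup p (T₂.map (MulAut.conj (m * g)⁻¹).toMonoidHom) := hT₂.2.1.map _
  have hT₃M : T₂.map (MulAut.conj (m * g)⁻¹).toMonoidHom ≤ M :=
    Subgroup.le_normalizer.trans (hB.normalizer_le hC _ hT₃p hAT₃)
  have hT₂Mh : T₂ ≤ M.map (MulAut.conj (m * g)).toMonoidHom := by
    have h1 := Subgroup.map_mono (f := (MulAut.conj (m * g)).toMonoidHom) hT₃M
    rwa [Cfsg.Agent.Lib.Helper23.mapConj_mul, mul_inv_cancel,
      Cfsg.Agent.Lib.Helper23.mapConj_one] at h1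
  have hVhu : IsPGroup u (V.map (MulAut.conj (m * g)).toMonoidHom) := hB.hVu.map _
  have hVhM' : V.map (MulAut.conj (m * g)).toMonoidHom ≤
      M.map (MulAut.conj (m * g)).toMonoidHom := Subgroup.map_mono hB.hVM
  have hAVh : A ≤ Subgroup.normalizer
      ((V.map (MulAut.conj (m * g)).toMonoidHom : Subgroup G) : Set G) := by
    rw [Cfsg.Agent.Lib.Helper35.BG.normalizer_map_conj]
    exact (hAT₂.trans hT₂Mh).trans (Subgroup.map_mono hB.hMV)
  have hVhinv : V.map (MulAut.conj (m * g)).toMonoidHom ∈ invSubgroups ⊤ A {u} :=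
    Cfsg.Agent.Lib.Helper23.mem_inv_of_isPGroup le_top hVhu hAVh
  have hVhM : V.map (MulAut.conj (m * g)).toMonoidHom ≤ M := hB.inv_le hC _ hVhinv
  have hVhU : InUniqueMaximal (V.map (MulAut.conj (m * g)).toMonoidHom) :=
    Cfsg.Agent.Lib.Helper61.bg_unique_mapConj hB.hVU (m * g)
  have hMh : M.map (MulAut.conj (m * g)).toMonoidHom = M :=
    Cfsg.Agent.Lib.Helper61.bg_unique_eq hVhU
      (Cfsg.Agent.Lib.Helper61.bg_isCoatom_mapConj hB.hM (m * g)) hVhM' hB.hM hVhM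
  have hhN : m * g ∈ Subgroup.normalizer (M : Set G) :=
    Cfsg.Agent.Lib.Helper23.mem_normalizer_of_mapConj_eq hMh
  have hM1 : M ≠ ⊥ := fun hbot => hC.hA1 (le_bot_iff.mp (hbot ▸ hB.hAM))
  have hNM : Subgroup.normalizer (M : Set G) = M :=
    Cfsg.Agent.Lib.Helper72.BG8.normalizer_eq_of_coatom_le hC.hG M hB.hM hM1 hB.hM.1
      Subgroup.le_normalizer
  rw [hNM] at hhN
  have e : g = m⁻¹ * (m * g) := by group
  rw [e]
  exact M.mul_mem (M.inv_mem hmM) hhN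

theorem TypeB.pRankLE (hC : Ctx G p A) (hB : TypeB p A M u V) (M' : Subgroup G)
    (hM' : IsCoatom M') (hAM' : A ≤ M') (hne : M' ≠ M) : PRankLE u 2 ↥M' := by
  by_contra hcon
  haveI : Fact u.Prime := ⟨hB.hu⟩
  obtain ⟨D, hD, hDM', hDc⟩ := Cfsg.Agent.Lib.Helper61.bg_exists_EA_of_not_pRankLE hcon
  have hDU : InUniqueMaximal D := hB.hU3 D hD hDc
  have hDu : IsPGroup u D := Cfsg.Agent.Lib.Helper61.bg_isPGroup_of_isEA hD
  obtain ⟨QD, hDQ, hQD⟩ := Cfsg.Agent.Lib.Helper61.exists_isSylIn_ge hDu (le_top : D ≤ ⊤)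
  obtain ⟨QV, hVQ, hQV⟩ := Cfsg.Agent.Lib.Helper61.exists_isSylIn_ge hB.hVu (le_top : V ≤ ⊤)
  obtain ⟨g, -, hg⟩ := hQD.exists_conj hQV
  have hQVtop : QV ≠ ⊤ := Cfsg.Agent.Lib.Helper72.BG8.isPGroup_ne_top hC.hG hQV.2.1
  have hQVM : QV ≤ M := by
    obtain ⟨D', hD', hQD'⟩ := Cfsg.Agent.Lib.Helper61.bg_exists_isCoatom_ge hQVtop
    have h1 := Cfsg.Agent.Lib.Helper61.bg_unique_eq hB.hVU hD' (hVQ.trans hQD') hB.hM hB.hVM
    rw [← h1]
    exact hQD'
  have hDg : D.map (MulAut.conj g).toMonoidHom ≤ M := by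
    have h1 : D.map (MulAut.conj g).toMonoidHom ≤ QD.map (MulAut.conj g).toMonoidHom :=
      Subgroup.map_mono hDQ
    rw [← hg] at h1
    exact h1.trans hQVM
  have hDgU : InUniqueMaximal (D.map (MulAut.conj g).toMonoidHom) :=
    Cfsg.Agent.Lib.Helper61.bg_unique_mapConj hDU g
  have hM'g : M'.map (MulAut.conj g).toMonoidHom = M :=
    Cfsg.Agent.Lib.Helper61.bg_unique_eq hDgU
      (Cfsg.Agent.Lib.Helper61.bg_isCoatom_mapConj hM' g) (Subgroup.map_mono hDM') hB.hM hDg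
  have hAg : A.map (MulAut.conj g).toMonoidHom ≤ M := by
    rw [← hM'g]
    exact Subgroup.map_mono hAM'
  have hgM : g ∈ M := hB.fusion hC g hAg
  apply hne
  have h3 : (M'.map (MulAut.conj g).toMonoidHom).map (MulAut.conj g⁻¹).toMonoidHom =
      M.map (MulAut.conj g⁻¹).toMonoidHom := by rw [hM'g]
  rw [Cfsg.Agent.Lib.Helper23.mapConj_mul, inv_mul_cancel,
    Cfsg.Agent.Lib.Helper23.mapConj_one] at h3
  rw [h3]
  exact Cfsg.Agent.Lib.Helper23.mapConj_eq_of_mem_normalizer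
    (Subgroup.le_normalizer (M.inv_mem hgM))

/-- A maximal subgroup over `A * K` whose Fitting subgroup has rank at least three is of
type (B). -/
theorem exists_typeB (hC : Ctx G p A) (M : Subgroup G) (hM : IsCoatom M) (hAM : A ≤ M)
    (hKM : KK A ≤ M) (hr : ¬ RankLE 2 ↥(fittingOf M)) :
    ∃ (u : ℕ) (V : Subgroup G), TypeB p A M u V := by
  unfold RankLE at hr
  push Not at hr
  obtain ⟨u, hu, hur⟩ := hr
  haveI : Fact u.Prime := ⟨hu⟩
  have hup : u ≠ p := by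
    rintro rfl
    exact hur (hC.hF M hM)
  have hU3 : ∀ U : Subgroup G, IsElementaryAbelian u U → u ^ 2 < Nat.card U →
      InUniqueMaximal U := by
    intro U hU hc
    exact Cfsg.Agent.S1401.result hC.hG M hM u hur U
      (Cfsg.Agent.Lib.Helper61.bg_isPGroup_of_isEA hU) hU.1
      (Cfsg.Agent.Lib.Helper61.bg_not_pRankLE_of_EA hU le_rfl hc)
  obtain ⟨D, hD, hDF, hDc⟩ := Cfsg.Agent.Lib.Helper61.bg_exists_EA_of_not_pRankLE hur
  obtain ⟨V, hV⟩ := Cfsg.Agent.Lib.Helper23.exists_isRPart (fittingOf M)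
    (Cfsg.Agent.Lib.Helper23.fittingOf_isNilpotent M) u
  have hDV : D ≤ V := by
    intro x hx
    exact hV.2.2 x (hDF hx) (isPGroup_zpowers_of_pow_eq hu (hD.2 x hx))
  have hDU := hU3 D hD hDc
  have hVM : V ≤ M := hV.1.trans (Cfsg.Agent.Lib.Helper23.fittingOf_le M)
  refine ⟨u, V, ⟨hM, hAM, hKM, hu, hup, hVM,
    (Cfsg.Agent.Lib.Helper23.le_normalizer_fittingOf M).trans hV.normalizer_le, hV.2.1,
    Cfsg.Agent.Lib.Helper61.bg_unique_of_le hDU hDV hM hVM, ?_, hU3⟩⟩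
  intro hbot
  rw [hbot, le_bot_iff] at hDV
  rw [hDV, Subgroup.card_bot] at hDc
  have := hu.one_lt
  nlinarith

/-- Every maximal subgroup containing `A * K` contains `N(A)`. -/
theorem normalizer_le_of_mem_MK (hC : Ctx G p A) (M : Subgroup G) (hM : IsCoatom M)
    (hAM : A ≤ M) (hKM : KK A ≤ M) : Subgroup.normalizer (A : Set G) ≤ M := by
  by_cases hr : RankLE 2 ↥(fittingOf M)
  · obtain ⟨q, Q, hq, hqp, hQ, hQ1, hNQ, -⟩ :=
      typeA_struct hC.hG p A hC.hAp hC.hA1 hC.hA3 hC.hTH hC.hF M hM hAM hr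
    intro g hg
    have h1 := Cfsg.Agent.Lib.Helper23.mapConj_mem_maxInv_of_normalizer hQ hg
    obtain ⟨k, hk, hQk⟩ := hC.htr q hq hqp Q hQ _ h1
    have hkN : k ∈ Subgroup.normalizer (Q : Set G) := by
      rw [hNQ]
      exact hKM hk
    rw [Cfsg.Agent.Lib.Helper23.mapConj_eq_of_mem_normalizer hkN] at hQk
    have h2 := Cfsg.Agent.Lib.Helper23.mem_normalizer_of_mapConj_eq hQk
    rwa [hNQ] at h2
  · obtain ⟨u, V, hB⟩ := exists_typeB hC M hM hAM hKM hr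
    exact hB.normalizer_le hC A hC.hAp le_rfl

end MinSimple

end Cfsg.Agent.Lib.Helper34.BG
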