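import Mathlib
import Cfsg.Prelude.Def_OddOrderLocal
import Cfsg.Agent.Lib.Helper34.BG.S1402C

/-!
# Bender–Glauberman Lemma 9.5 (S1402): `A ∈ SCN_3(P)` is a uniqueness subgroup

Let `A ∈ SCN_3(P)`, `K = O_{p'}(C(A))`, `E ≤ A` elementary abelian of order at least `p ^ 3`,
and suppose `A` lies in two maximal subgroups.  Every maximal subgroup containing `C(b)`,
`b ∈ E#`, contains `A * K`; every maximal subgroup containing `A * K` contains `N(A)`, hence
its derived group contains a fixed element `a ≠ 1` of `A ∩ N(A)'`.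

* If some maximal subgroup `M ≥ A * K` has `r_u(F(M)) ≥ 3`, then `a` centralizes every maximal
  `A`-invariant `u`-subgroup (`TypeB.centralizes`), `M` is the only maximal subgroup containing
  `A * K` (`TypeB.unique`), and Theorem 9.1(a) applies to `E`.
* Otherwise every maximal subgroup over `A * K` is the normalizer of the unique maximal
  `A`-invariant `q`-subgroup for its largest prime `q`, and Theorem 9.1(a) applies to a
  suitable noncyclic `B ≤ E`.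
-/

set_option autoImplicit false

namespace Cfsg.Agent.Lib.Helper34.BG

open Cfsg
open scoped Pointwise commutatorElement

universe u

section MinSimple

variable {G : Type u} [Group G] [Finite G]

variable {p : ℕ} [Fact p.Prime] {A M V : Subgroup G} {u : ℕ}

/-- The element `a ∈ A ∩ N(A)'` centralizes every maximal `A`-invariant `u`-subgroup. -/
theorem TypeB.centralizes (hC : Ctx G p A) (hB : TypeB p A M u V)
    (E : Subgroup G) (hE : IsElementaryAbelian p E) (hEA : E ≤ A) (hE3 : p ^ 3 ≤ Nat.card E)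
    (hno : ∀ B : Subgroup G, B ≤ E → ¬ IsCyclic B → ∀ M₁ : Subgroup G, IsCoatom M₁ →
      ¬ ∀ b ∈ B, b ≠ 1 → Subgroup.centralizer ({b} : Set G) ≤ M₁)
    (a : G) (haA : a ∈ A)
    (haN : a ∈ ⁅Subgroup.normalizer (A : Set G), Subgroup.normalizer (A : Set G)⁆)
    (S : Subgroup G) (hS : S ∈ maxInvSubgroups ⊤ A {u}) :
    S ≤ Subgroup.centralizer ({a} : Set G) := by
  have hp : p.Prime := Fact.out
  haveI : Fact u.Prime := ⟨hB.hu⟩
  by_contra hcon
  have hSu : IsPGroup u S := Cfsg.Agent.Lib.Helper23.isPGroup_of_mem_inv hS.1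
  have hpS : ¬ p ∣ Nat.card S := by
    intro h
    exact hB.hup (eq_of_prime_dvd_card_isPGroup hSu hp h).symm
  have hAS : A ≤ Subgroup.normalizer (S : Set G) := hS.1.2.2
  obtain ⟨B, hBE, hBnc, hBY⟩ := rank_two_generation E S (Subgroup.centralizer ({a} : Set G))
    hE hE3 hpS (hEA.trans hAS) hcon
  apply hno B hBE hBnc M hB.hM
  intro b hb hb1
  have hbA : b ∈ A := hEA (hBE hb)
  have hCb : Subgroup.centralizer ({b} : Set G) ≠ ⊤ := centralizer_singleton_ne_top hC.hG hb1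
  obtain ⟨M₁, hM₁, hCM₁⟩ := Cfsg.Agent.Lib.Helper61.bg_exists_isCoatom_ge hCb
  by_cases hMM : M₁ = M
  · rw [← hMM]
    exact hCM₁
  exfalso
  have hAb : A ≤ Subgroup.centralizer ({b} : Set G) := by
    intro x hx
    rw [Subgroup.mem_centralizer_iff]
    intro y hy
    rw [Set.mem_singleton_iff] at hy
    rw [hy]
    exact hC.hAc b hbA x hx
  have hAM₁ : A ≤ M₁ := hAb.trans hCM₁
  have hKM₁ : KK A ≤ M₁ := by
    refine le_trans ?_ hCM₁
    exact (Cfsg.Agent.Lib.Helper23.piCoreOf_le _ _).trans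
      (Subgroup.centralizer_le (Set.singleton_subset_iff.mpr hbA))
  have hNA := normalizer_le_of_mem_MK hC M₁ hM₁ hAM₁ hKM₁
  have haM₁ : a ∈ ⁅M₁, M₁⁆ := Subgroup.commutator_mono hNA hNA haN
  have hr := hB.pRankLE hC M₁ hM₁ hAM₁ hMM
  have hWM₁ : S ⊓ Subgroup.centralizer ({b} : Set G) ≤ M₁ := inf_le_right.trans hCM₁
  have hWu : IsPGroup u (S ⊓ Subgroup.centralizer ({b} : Set G) : Subgroup G) :=
    hSu.to_le inf_le_left
  have haW : a ∈ Subgroup.normalizer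
      ((S ⊓ Subgroup.centralizer ({b} : Set G) : Subgroup G) : Set G) := by
    apply Cfsg.Agent.Lib.Helper61.normalizer_inf_le_normalizer_inf
    exact ⟨hAS haA, Subgroup.le_normalizer (hAb haA)⟩
  have hao : (orderOf a).Coprime u := by
    obtain ⟨n, hn⟩ := (IsPGroup.iff_orderOf.mp hC.hAp) ⟨a, haA⟩
    rw [Subgroup.orderOf_mk] at hn
    rw [hn]
    exact Nat.Coprime.pow_left n ((Nat.coprime_primes hp hB.hu).mpr (Ne.symm hB.hup))
  have hcent := centralizes_of_pRank_two M₁ (hC.hG.2.2.2 M₁ hM₁.1)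
    (Odd.of_dvd_nat hC.hG.1 (Subgroup.card_subgroup_dvd_card M₁)) u hr a haM₁ hao _ hWM₁ hWu haW
  apply hBY
  intro x hx
  have hxW : x ∈ S ⊓ Subgroup.centralizer ({b} : Set G) :=
    ⟨hx.1, Subgroup.centralizer_le (Set.singleton_subset_iff.mpr hb) hx.2⟩
  rw [Subgroup.mem_centralizer_iff]
  intro y hy
  rw [Set.mem_singleton_iff] at hy
  rw [hy]
  exact ((Subgroup.mem_centralizer_iff.mp hcent) x hxW).symm

/-- A maximal subgroup of type (B) over `A * K` is the only maximal subgroup over `A * K`. -/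
theorem TypeB.unique (hC : Ctx G p A) (hB : TypeB p A M u V)
    (E : Subgroup G) (hE : IsElementaryAbelian p E) (hEA : E ≤ A) (hE3 : p ^ 3 ≤ Nat.card E)
    (hno : ∀ B : Subgroup G, B ≤ E → ¬ IsCyclic B → ∀ M₁ : Subgroup G, IsCoatom M₁ →
      ¬ ∀ b ∈ B, b ≠ 1 → Subgroup.centralizer ({b} : Set G) ≤ M₁)
    (a : G) (haA : a ∈ A)
    (haN : a ∈ ⁅Subgroup.normalizer (A : Set G), Subgroup.normalizer (A : Set G)⁆)
    (ha1 : a ≠ 1)
    (M₁ : Subgroup G) (hM₁ : IsCoatom M₁) (hAM₁ : A ≤ M₁) (hKM₁ : KK A ≤ M₁) : M₁ = M := by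
  have hp : p.Prime := Fact.out
  haveI : Fact u.Prime := ⟨hB.hu⟩
  have hVC : V ≤ Subgroup.centralizer ({a} : Set G) := by
    have hVinv : V ∈ invSubgroups ⊤ A {u} :=
      Cfsg.Agent.Lib.Helper23.mem_inv_of_isPGroup le_top hB.hVu (hB.hAM.trans hB.hMV)
    obtain ⟨S, hS, hVS⟩ := Cfsg.Agent.Lib.Helper23.exists_maxInv_ge hVinv
    exact hVS.trans (hB.centralizes hC E hE hEA hE3 hno a haA haN S hS)
  have hCa : Subgroup.centralizer ({a} : Set G) ≠ ⊤ := centralizer_singleton_ne_top hC.hG ha1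
  have hCaM : Subgroup.centralizer ({a} : Set G) ≤ M := by
    obtain ⟨D, hD, hCD⟩ := Cfsg.Agent.Lib.Helper61.bg_exists_isCoatom_ge hCa
    have h1 := Cfsg.Agent.Lib.Helper61.bg_unique_eq hB.hVU hD (hVC.trans hCD) hB.hM hB.hVM
    rw [← h1]
    exact hCD
  by_cases hr : RankLE 2 ↥(fittingOf M₁)
  · apply Cfsg.Agent.Lib.Helper61.bg_le_of_isCoatom hM₁ hB.hM
    have hNA := normalizer_le_of_mem_MK hC M₁ hM₁ hAM₁ hKM₁
    have haM₁ : a ∈ ⁅M₁, M₁⁆ := Subgroup.commutator_mono hNA hNA haN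
    haveI : Group.IsSolvable ↥M₁ := hC.hG.2.2.2 M₁ hM₁.1
    have hodd : Odd (Nat.card ↥M₁) :=
      Odd.of_dvd_nat hC.hG.1 (Subgroup.card_subgroup_dvd_card M₁)
    have hr' : RankLE 2 ↥(fittingSubgroup ↥M₁) := by
      intro x hx
      exact Cfsg.Agent.Lib.Helper61.bg_pRankLE_of_injective
        ((fittingSubgroup ↥M₁).equivMapOfInjective M₁.subtype M₁.subtype_injective).toMonoidHom
        (MulEquiv.injective _) (hr x hx)
    have hnil := (Cfsg.Agent.S1451.result hodd (Or.inr hr')).1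
    have hcomm : commutator ↥M₁ ≤ fittingSubgroup ↥M₁ := le_sSup ⟨inferInstance, hnil⟩
    have haF : a ∈ fittingOf M₁ := by
      rw [← Subgroup.map_subtype_commutator] at haM₁
      obtain ⟨a', ha', ha'e⟩ := haM₁
      exact ⟨a', hcomm ha', ha'e⟩
    obtain ⟨T, hAT, hT⟩ := Cfsg.Agent.Lib.Helper61.exists_isSylIn_ge hC.hAp hAM₁
    have hNT : Subgroup.normalizer (T : Set G) ≤ M := hB.normalizer_le hC T hT.2.1 hAT
    have hTM : T ≤ M := Subgroup.le_normalizer.trans hNT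
    have hFnil := Cfsg.Agent.Lib.Helper23.fittingOf_isNilpotent M₁
    have hFM : fittingOf M₁ ≤ M := by
      apply Cfsg.Agent.Lib.Helper23.le_of_pElements
      intro r hr₁ hrdvd x hx hxr
      haveI : Fact r.Prime := ⟨hr₁⟩
      by_cases hrp : r = p
      · subst hrp
        obtain ⟨Pr, hPr⟩ := Cfsg.Agent.Lib.Helper23.exists_isRPart (fittingOf M₁) hFnil r
        have hxPr : x ∈ Pr := hPr.2.2 x hx hxr
        have hM₁Pr : M₁ ≤ Subgroup.normalizer (Pr : Set G) :=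
          (Cfsg.Agent.Lib.Helper23.le_normalizer_fittingOf M₁).trans hPr.normalizer_le
        exact hTM (hT.le_of_normalized hPr.2.1
          (hPr.1.trans (Cfsg.Agent.Lib.Helper23.fittingOf_le M₁)) (hT.1.trans hM₁Pr) hxPr)
      · apply hCaM
        rw [Subgroup.mem_centralizer_iff]
        intro y hy
        rw [Set.mem_singleton_iff] at hy
        rw [hy]
        apply Cfsg.Agent.Lib.Helper23.comm_of_coprime_orderOf hFnil haF hx
        obtain ⟨n, hn⟩ := (IsPGroup.iff_orderOf.mp hC.hAp) ⟨a, haA⟩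
        rw [Subgroup.orderOf_mk] at hn
        obtain ⟨j, hj⟩ := (IsPGroup.iff_orderOf.mp hxr) ⟨x, Subgroup.mem_zpowers x⟩
        rw [Subgroup.orderOf_mk] at hj
        rw [hn, hj]
        exact Nat.Coprime.pow _ _ ((Nat.coprime_primes hp hr₁).mpr (Ne.symm hrp))
    have hNH : fittingOf M₁ ⊔ T ≤ M₁ :=
      sup_le (Cfsg.Agent.Lib.Helper23.fittingOf_le M₁) hT.1
    have hNM : fittingOf M₁ ⊔ T ≤ M := sup_le hFM hTM
    have hHN : M₁ ≤ Subgroup.normalizer ((fittingOf M₁ ⊔ T : Subgroup G) : Set G) := by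
      intro h hh
      apply Cfsg.Agent.Lib.Helper61.bg_mem_normalizer_of_mapConj_le
      intro y hy
      rw [Cfsg.Agent.Lib.Helper23.mem_mapConj] at hy
      have hzH : h⁻¹ * y * h ∈ M₁ := hNH hy
      have hc : h * (h⁻¹ * y * h) * h⁻¹ * (h⁻¹ * y * h)⁻¹ ∈ fittingOf M₁ := by
        refine ⟨⁅(⟨h, hh⟩ : ↥M₁), ⟨h⁻¹ * y * h, hzH⟩⁆, hcomm ?_, rfl⟩
        rw [commutator_def]
        exact Subgroup.commutator_mem_commutator (Subgroup.mem_top _) (Subgroup.mem_top _)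
      have e : y = (h * (h⁻¹ * y * h) * h⁻¹ * (h⁻¹ * y * h)⁻¹) * (h⁻¹ * y * h) := by group
      rw [e]
      exact Subgroup.mul_mem _ ((le_sup_left : fittingOf M₁ ≤ fittingOf M₁ ⊔ T) hc) hy
    have hRN : Cfsg.Agent.Lib.Helper61.IsSylIn p T (fittingOf M₁ ⊔ T) :=
      hT.mono le_sup_right hNH
    intro h hh
    obtain ⟨n, hn, hnh⟩ := Cfsg.Agent.Lib.Helper61.bg_frattini hRN (hHN hh)
    have e : h = n * (n⁻¹ * h) := by group
    rw [e]
    exact M.mul_mem (hNM hn) (hNT hnh)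
  · obtain ⟨u₁, V₁, hB₁⟩ := exists_typeB hC M₁ hM₁ hAM₁ hKM₁ hr
    haveI : Fact u₁.Prime := ⟨hB₁.hu⟩
    have hV₁C : V₁ ≤ Subgroup.centralizer ({a} : Set G) := by
      have hVinv : V₁ ∈ invSubgroups ⊤ A {u₁} :=
        Cfsg.Agent.Lib.Helper23.mem_inv_of_isPGroup le_top hB₁.hVu (hB₁.hAM.trans hB₁.hMV)
      obtain ⟨S, hS, hVS⟩ := Cfsg.Agent.Lib.Helper23.exists_maxInv_ge hVinv
      exact hVS.trans (hB₁.centralizes hC E hE hEA hE3 hno a haA haN S hS)
    obtain ⟨D, hD, hCD⟩ := Cfsg.Agent.Lib.Helper61.bg_exists_isCoatom_ge hCa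
    have h1 := Cfsg.Agent.Lib.Helper61.bg_unique_eq hB.hVU hD (hVC.trans hCD) hB.hM hB.hVM
    have h2 := Cfsg.Agent.Lib.Helper61.bg_unique_eq hB₁.hVU hD (hV₁C.trans hCD) hB₁.hM hB₁.hVM
    rw [← h2, h1]

end MinSimple

section Main

variable {G : Type u} [Group G] [Finite G]

/-- **Bender–Glauberman, Lemma 9.5**: in a minimal simple group of odd order, every
`A ∈ SCN_3(P)`, `P` a Sylow `p`-subgroup, lies in a unique maximal subgroup. -/
theorem s1402_core (hG : IsMinSimpleOddOrder G) (p : ℕ) [Fact p.Prime] (P : Sylow p G)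
    (A : Subgroup G) (hA : IsSCN (P : Subgroup G) A) (hA3 : ¬ PRankLE p 2 ↥A) :
    InUniqueMaximal A := by
  by_contra hnot
  have hp : p.Prime := Fact.out
  have hAP : A ≤ (P : Subgroup G) := hA.1
  have hAp : IsPGroup p A := P.isPGroup'.to_le hAP
  have hAcomm := Cfsg.Agent.Lib.Helper61.bg_isSCN_comm hA
  have hAc : IsMulCommutative A := ⟨⟨fun a b => Subtype.ext (hAcomm a a.2 b b.2)⟩⟩
  obtain ⟨E, hE, hEA, hEc⟩ := Cfsg.Agent.Lib.Helper61.bg_exists_EA_of_not_pRankLE hA3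
  have hp2 : p < p ^ 2 := by nlinarith [hp.one_lt]
  have hA1 : A ≠ ⊥ := by
    intro h
    rw [h, le_bot_iff] at hEA
    rw [hEA, Subgroup.card_bot] at hEc
    omega
  have hAtop : A ≠ ⊤ := Cfsg.Agent.Lib.Helper72.BG8.isPGroup_ne_top hG hAp
  have hpG : p ∣ Nat.card G :=
    (dvd_card_of_isPGroup_ne_bot hAp hA1).trans (Subgroup.card_subgroup_dvd_card A)
  have hA1' : ¬ PRankLE p 1 ↥A := fun h =>
    hA3 (Cfsg.Agent.Lib.Helper35.BG.pRankLE_mono hp.pos (by norm_num) h)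
  have hTH : TransitivityHypothesis A :=
    Cfsg.Agent.S1396.result hG p hpG A hAp hAc (Or.inr ⟨P, hA, hA1'⟩)
  have hAC : A ≤ Subgroup.centralizer (A : Set G) := by
    intro x hx
    rw [Subgroup.mem_centralizer_iff]
    intro y hy
    exact hAcomm y hy x hx
  have hZ : ¬ RankLE 2 ↥(A ⊓ Subgroup.centralizer (A : Set G)) := by
    rw [inf_eq_left.mpr hAC]
    exact Cfsg.Agent.Lib.Helper35.BG.not_rankLE_of_not_pRankLE hA3
  have htr : ∀ q : ℕ, q.Prime → q ≠ p → ∀ Q₁ ∈ maxInvSubgroups ⊤ A {q},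
      ∀ Q₂ ∈ maxInvSubgroups ⊤ A {q},
      ∃ k ∈ piCoreOf (primesNotDvd (Nat.card A)) (Subgroup.centralizer (A : Set G)),
        Q₂ = Q₁.map (MulAut.conj k).toMonoidHom := by
    intro q hq hqp
    have hqA : ¬ q ∣ Nat.card A := ((mem_primesNotDvd_iff hAp hA1 q).mpr ⟨hq, hqp⟩).2
    exact Cfsg.Agent.S1393.result hG A hTH hZ q hq hqA
  have hF : ∀ H : Subgroup G, IsCoatom H → PRankLE p 2 ↥(fittingOf H) := by
    intro H hH
    by_contra hc
    exact hnot (Cfsg.Agent.S1401.result hG H hH p hc A hAp hAc hA3)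
  have hC : Ctx G p A := ⟨hG, hAp, hA1, hAcomm, hA3, hTH, htr, hF⟩
  have hE3 : p ^ 3 ≤ Nat.card E := by
    obtain ⟨n, hn⟩ := IsPGroup.iff_card.mp (Cfsg.Agent.Lib.Helper61.bg_isPGroup_of_isEA hE)
    rw [hn] at hEc ⊢
    have h2 : 2 < n := (Nat.pow_lt_pow_iff_right hp.one_lt).mp hEc
    exact Nat.pow_le_pow_right hp.pos h2
  have hEnc : ¬ IsCyclic E :=
    Cfsg.Agent.Lib.Helper61.bg_not_isCyclic_of_EA hp hE (by omega)
  have hexne : ∀ B : Subgroup G, ¬ IsCyclic B → ∃ b ∈ B, b ≠ 1 := by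
    intro B hBnc
    by_contra h
    push Not at h
    apply hBnc
    have hB : B = ⊥ := (Subgroup.eq_bot_iff_forall B).mpr h
    rw [hB]
    infer_instance
  have hno : ∀ B : Subgroup G, B ≤ E → ¬ IsCyclic B → ∀ M₁ : Subgroup G, IsCoatom M₁ →
      ¬ ∀ b ∈ B, b ≠ 1 → Subgroup.centralizer ({b} : Set G) ≤ M₁ := by
    intro B hBE hBnc M₁ hM₁ hall
    have hBe : IsElementaryAbelian p B :=
      Cfsg.Agent.Lib.Helper61.bg_isEA_of_forall
        (fun a ha b hb => hAcomm a (hEA (hBE ha)) b (hEA (hBE hb)))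
        (fun a ha => hE.2 a (hBE ha))
    obtain ⟨b, hb, hb1⟩ := hexne B hBnc
    have hBM₁ : B ≤ M₁ := by
      intro x hx
      apply hall b hb hb1
      rw [Subgroup.mem_centralizer_iff]
      intro y hy
      rw [Set.mem_singleton_iff] at hy
      rw [hy]
      exact hAcomm b (hEA (hBE hb)) x (hEA (hBE hx))
    have hBU := Cfsg.Agent.S1398.result hG M₁ hM₁ p B hBM₁ hBe hBnc (Or.inl hall)
    exact hnot (Cfsg.Agent.Lib.Helper61.bg_unique_of_le' hBU (hBE.trans hEA) hAtop)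
  obtain ⟨a, haA, haN, ha1⟩ := exists_mem_inf_commutator_normalizer hG p P A hA hA1
  have hMK : ∀ b ∈ E, b ≠ 1 → ∀ M₁ : Subgroup G,
      Subgroup.centralizer ({b} : Set G) ≤ M₁ → A ≤ M₁ ∧ KK A ≤ M₁ := by
    intro b hb hb1 M₁ hCM₁
    have hbA := hEA hb
    refine ⟨fun x hx => hCM₁ ?_, ?_⟩
    · rw [Subgroup.mem_centralizer_iff]
      intro y hy
      rw [Set.mem_singleton_iff] at hy
      rw [hy]
      exact hAcomm b hbA x hx
    · refine le_trans ?_ hCM₁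
      exact (Cfsg.Agent.Lib.Helper23.piCoreOf_le _ _).trans
        (Subgroup.centralizer_le (Set.singleton_subset_iff.mpr hbA))
  by_cases hex : ∃ M : Subgroup G, IsCoatom M ∧ A ≤ M ∧ KK A ≤ M ∧ ¬ RankLE 2 ↥(fittingOf M)
  · obtain ⟨M, hM, hAM, hKM, hr⟩ := hex
    obtain ⟨u, V, hB⟩ := exists_typeB hC M hM hAM hKM hr
    apply hno E le_rfl hEnc M hM
    intro b hb hb1
    obtain ⟨M₁, hM₁, hCM₁⟩ :=
      Cfsg.Agent.Lib.Helper61.bg_exists_isCoatom_ge (centralizer_singleton_ne_top hG hb1)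
    obtain ⟨h1, h2⟩ := hMK b hb hb1 M₁ hCM₁
    rw [← hB.unique hC E hE hEA hE3 hno a haA haN ha1 M₁ hM₁ h1 h2]
    exact hCM₁
  · push Not at hex
    classical
    obtain ⟨b₀, hb₀E, hb₀1⟩ := hexne E hEnc
    obtain ⟨M₀, hM₀, hCM₀⟩ :=
      Cfsg.Agent.Lib.Helper61.bg_exists_isCoatom_ge (centralizer_singleton_ne_top hG hb₀1)
    obtain ⟨hAM₀, hKM₀⟩ := hMK b₀ hb₀E hb₀1 M₀ hCM₀
    obtain ⟨q₀, Q₀, hq₀, hq₀p, hQ₀, hQ₀1, -, -⟩ :=
      typeA_struct hG p A hAp hA1 hA3 hTH hF M₀ hM₀ hAM₀ (hex M₀ hM₀ hAM₀ hKM₀)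
    have hmemF : ∀ q : ℕ, q.Prime → q ≠ p → ∀ Y ∈ invSubgroups ⊤ A {q}, Y ≠ ⊥ →
        q ∈ (Nat.card G).primeFactors.filter
          (fun q => q ≠ p ∧ ∃ Y ∈ invSubgroups ⊤ A {q}, Y ≠ ⊥) := by
      intro q hq hqp Y hY hY1
      rw [Finset.mem_filter, Nat.mem_primeFactors]
      refine ⟨⟨hq, ?_, Nat.card_pos.ne'⟩, hqp, Y, hY, hY1⟩
      haveI : Fact q.Prime := ⟨hq⟩
      exact (dvd_card_of_isPGroup_ne_bot (Cfsg.Agent.Lib.Helper23.isPGroup_of_mem_inv hY)
        hY1).trans (Subgroup.card_subgroup_dvd_card Y)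
    have hFne : ((Nat.card G).primeFactors.filter
        (fun q => q ≠ p ∧ ∃ Y ∈ invSubgroups ⊤ A {q}, Y ≠ ⊥)).Nonempty :=
      ⟨q₀, hmemF q₀ hq₀ hq₀p Q₀ hQ₀.1 hQ₀1⟩
    obtain ⟨qs, hqsF, hqsmax⟩ := Finset.exists_max_image _ id hFne
    rw [Finset.mem_filter, Nat.mem_primeFactors] at hqsF
    obtain ⟨⟨hqs, -, -⟩, hqsp, Ys, hYs, hYs1⟩ := hqsF
    haveI : Fact qs.Prime := ⟨hqs⟩
    obtain ⟨Qs, hQs, hYQ⟩ := Cfsg.Agent.Lib.Helper23.exists_maxInv_ge hYs
    have hQs1 : Qs ≠ ⊥ := fun h => hYs1 (le_bot_iff.mp (h ▸ hYQ))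
    have hQsq : IsPGroup qs Qs := Cfsg.Agent.Lib.Helper23.isPGroup_of_mem_inv hQs.1
    have hpQs : ¬ p ∣ Nat.card Qs := by
      intro h
      exact hqsp (eq_of_prime_dvd_card_isPGroup hQsq hp h).symm
    have hAQs : A ≤ Subgroup.normalizer (Qs : Set G) := hQs.1.2.2
    obtain ⟨B, hBE, hBnc, hBY⟩ := rank_two_generation E Qs ⊥ hE hE3 hpQs (hEA.trans hAQs)
      (fun h => hQs1 (le_bot_iff.mp h))
    have key : ∀ b ∈ B, b ≠ 1 → ∀ L : Subgroup G, IsCoatom L →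
        Subgroup.centralizer ({b} : Set G) ≤ L → Subgroup.normalizer (Qs : Set G) = L := by
      intro b hb hb1 L hL hCL
      obtain ⟨hAL, hKL⟩ := hMK b (hBE hb) hb1 L hCL
      obtain ⟨q, Q, hq, hqp, hQ, hQ1, hNQ, hmax⟩ :=
        typeA_struct hG p A hAp hA1 hA3 hTH hF L hL hAL (hex L hL hAL hKL)
      have hY₁1 : Qs ⊓ Subgroup.centralizer (B : Set G) ≠ ⊥ := fun h => hBY (h ▸ le_rfl)
      have hY₁q : IsPGroup qs (Qs ⊓ Subgroup.centralizer (B : Set G) : Subgroup G) :=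
        hQsq.to_le inf_le_left
      have hY₁L : Qs ⊓ Subgroup.centralizer (B : Set G) ≤ L :=
        (inf_le_right.trans
          (Subgroup.centralizer_le (Set.singleton_subset_iff.mpr hb))).trans hCL
      have hAY₁ : A ≤ Subgroup.normalizer
          ((Qs ⊓ Subgroup.centralizer (B : Set G) : Subgroup G) : Set G) := by
        refine le_trans ?_ (Cfsg.Agent.Lib.Helper61.normalizer_inf_le_normalizer_inf Qs
          (Subgroup.centralizer (B : Set G)))
        refine le_inf hAQs (le_trans ?_ Subgroup.le_normalizer)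
        intro x hx
        rw [Subgroup.mem_centralizer_iff]
        intro y hy
        exact hAcomm y (hEA (hBE hy)) x hx
      have hY₁inv : (Qs ⊓ Subgroup.centralizer (B : Set G) : Subgroup G) ∈
          invSubgroups L A (primesNotDvd (Nat.card A)) := by
        refine ⟨hY₁L, ?_, hAY₁⟩
        intro x hx hxd
        rw [eq_of_prime_dvd_card_isPGroup hY₁q hx hxd]
        exact (mem_primesNotDvd_iff hAp hA1 qs).mpr ⟨hqs, hqsp⟩
      have hqs_le : qs ≤ q :=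
        hmax _ hY₁inv qs hqs (dvd_card_of_isPGroup_ne_bot hY₁q hY₁1)
      have hq_le : q ≤ qs := hqsmax q (hmemF q hq hqp Q hQ.1 hQ1)
      have hqq : q = qs := le_antisymm hq_le hqs_le
      subst hqq
      obtain ⟨k, hk, hQk⟩ := htr q hq hqp Q hQ Qs hQs
      have hkN : k ∈ Subgroup.normalizer (Q : Set G) := by
        rw [hNQ]
        exact hKL hk
      rw [Cfsg.Agent.Lib.Helper23.mapConj_eq_of_mem_normalizer hkN] at hQk
      rw [hQk]
      exact hNQ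
    obtain ⟨b₁, hb₁, hb₁1⟩ := hexne B hBnc
    obtain ⟨L₁, hL₁, hCL₁⟩ :=
      Cfsg.Agent.Lib.Helper61.bg_exists_isCoatom_ge (centralizer_singleton_ne_top hG hb₁1)
    have hNL₁ := key b₁ hb₁ hb₁1 L₁ hL₁ hCL₁
    apply hno B hBE hBnc L₁ hL₁
    intro b hb hb1
    obtain ⟨L, hL, hCL⟩ :=
      Cfsg.Agent.Lib.Helper61.bg_exists_isCoatom_ge (centralizer_singleton_ne_top hG hb1)
    have h3 := key b hb hb1 L hL hCL
    rw [← hNL₁, h3]
    exact hCL

end Main

end Cfsg.Agent.Lib.Helper34.BG
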