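import Mathlib
import Cfsg.Prelude.Def_OddOrderLocal
import Cfsg.Agent.Lib.Helper1.CoprimeAbelian
import Cfsg.Agent.Lib.Helper1.Commutator
import Cfsg.Agent.Lib.Helper35.BG.Basic
import Cfsg.Agent.Lib.Helper35.BG.Hall
import Cfsg.Agent.Lib.Helper35.BG.FrobQ
import Cfsg.Agent.Lib.Helper20.BG.S1370Core
import Cfsg.Agent.Lib.Helper27.BG.SigmaBasic
import Cfsg.Agent.Lib.Helper47.BG.SigmaDisjCaseII
import Cfsg.Agent.Lib.Helper67.BG.Basics
import Cfsg.Agent.Lib.Helper69.PCount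

/-!
# B&G 13.10 / 13.11: pure group-theoretic lemmas

Generic lemmas used in the proof of `Hyp1311` (the case "`E₃` is not regular on `M_σ`" of
B&G Theorem 13.9/13.11).
-/

set_option autoImplicit false
set_option linter.unusedSectionVars false
set_option linter.unusedVariables false
set_option linter.style.haveILetI false

namespace Cfsg.Agent.Lib.Helper34.BG

open Cfsg Cfsg.Agent.Lib.Helper46 Cfsg.Agent.Lib.Helper35.BG
open scoped commutatorElement

universe u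

variable {G : Type u} [Group G]

/-- Two subgroups of the same order of a cyclic subgroup are equal. -/
theorem eq_of_card_eq_of_le_isCyclic [Finite G] {C X Y : Subgroup G} (hC : IsCyclic C)
    (hX : X ≤ C) (hY : Y ≤ C) (h : Nat.card X = Nat.card Y) : X = Y := by
  haveI := hC
  have h1 : X.subgroupOf C = Y.subgroupOf C := by
    apply Cfsg.Agent.Lib.Helper69.eq_of_card_eq_of_isCyclic
    rw [Nat.card_congr (Subgroup.subgroupOfEquivOfLe hX).toEquiv,
      Nat.card_congr (Subgroup.subgroupOfEquivOfLe hY).toEquiv]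
    exact h
  rw [← Subgroup.map_subgroupOf_eq_of_le hX, ← Subgroup.map_subgroupOf_eq_of_le hY, h1]

/-- A nontrivial `t`-subgroup contains an element of order `t`. -/
theorem exists_orderOf_eq_of_isPGroup [Finite G] {t : ℕ} [Fact t.Prime] {A : Subgroup G}
    (hA : IsPGroup t A) (hA1 : A ≠ ⊥) : ∃ a ∈ A, orderOf a = t := by
  have hdvd : t ∣ Nat.card A := Cfsg.Agent.Lib.Helper67.BG.dvd_card_of_isPGroup_ne_bot hA hA1
  obtain ⟨x, hx⟩ := exists_prime_orderOf_dvd_card' t hdvd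
  exact ⟨(x : G), x.2, by rw [Subgroup.orderOf_coe]; exact hx⟩

/-- In a cyclic `t`-group two subgroups meeting trivially cannot both be nontrivial. -/
theorem eq_bot_or_eq_bot_of_isCyclic_pgroup [Finite G] {t : ℕ} [Fact t.Prime]
    {S A B : Subgroup G} (hSc : IsCyclic S) (hSt : IsPGroup t S) (hA : A ≤ S) (hB : B ≤ S)
    (hAB : A ⊓ B = ⊥) : A = ⊥ ∨ B = ⊥ := by
  by_contra hcon
  push Not at hcon
  obtain ⟨hA1, hB1⟩ := hcon
  obtain ⟨a, haA, hao⟩ := exists_orderOf_eq_of_isPGroup (hSt.to_le hA) hA1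
  obtain ⟨b, hbB, hbo⟩ := exists_orderOf_eq_of_isPGroup (hSt.to_le hB) hB1
  have hza : Subgroup.zpowers a ≤ S := (Subgroup.zpowers_le).mpr (hA haA)
  have hzb : Subgroup.zpowers b ≤ S := (Subgroup.zpowers_le).mpr (hB hbB)
  have hcard : Nat.card (Subgroup.zpowers a) = Nat.card (Subgroup.zpowers b) := by
    rw [Nat.card_zpowers, Nat.card_zpowers, hao, hbo]
  have heq := eq_of_card_eq_of_le_isCyclic hSc hza hzb hcard
  have haB : a ∈ B := by
    have : a ∈ Subgroup.zpowers b := heq ▸ Subgroup.mem_zpowers a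
    exact (Subgroup.zpowers_le).mpr hbB this
  have ha1 : a ∈ (A ⊓ B : Subgroup G) := ⟨haA, haB⟩
  rw [hAB, Subgroup.mem_bot] at ha1
  rw [ha1, orderOf_one] at hao
  exact (Fact.out : t.Prime).one_lt.ne hao

/-- A group acting coprimely and nontrivially on a cyclic `t`-group has no nontrivial fixed
points on it. -/
theorem inf_centralizer_eq_bot_of_isCyclic [Finite G] {t : ℕ} [Fact t.Prime] {S P : Subgroup G}
    (hSc : IsCyclic S) (hSt : IsPGroup t S) (hPS : P ≤ Subgroup.normalizer (S : Set G))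
    (hcop : (Nat.card P).Coprime (Nat.card S))
    (hnc : ¬ P ≤ Subgroup.centralizer (S : Set G)) :
    S ⊓ Subgroup.centralizer (P : Set G) = ⊥ := by
  haveI : IsMulCommutative S :=
    isMulCommutative_subgroup_iff.mpr (Cfsg.Agent.Lib.Helper20.BG.comm_of_isCyclic hSc)
  have h1 := Cfsg.Agent.Lib.Helper1.abelian_centralizer_inf_commutator P S hPS hcop
  have h2 : ⁅S, P⁆ ≤ S := Cfsg.Agent.Lib.Helper1.commutator_le_of_le_normalizer hPS
  rcases eq_bot_or_eq_bot_of_isCyclic_pgroup hSc hSt inf_le_left h2 h1 with h | h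
  · exact h
  · exfalso
    apply hnc
    have h3 := Subgroup.commutator_eq_bot_iff_le_centralizer.mp h
    exact Subgroup.le_centralizer_iff.mp h3

/-- If `C` contains a Sylow `q`-subgroup of `K` for every prime `q`, then `K ≤ C`. -/
theorem le_of_forall_sylow_le [Finite G] {K C : Subgroup G}
    (h : ∀ q : ℕ, q.Prime → q ∣ Nat.card K → ∃ Q : Subgroup G, IsSylowIn q Q K ∧ Q ≤ C) :
    K ≤ C := by
  have hK0 : Nat.card K ≠ 0 := Nat.card_pos.ne'
  have hKC0 : Nat.card (K ⊓ C : Subgroup G) ≠ 0 := Nat.card_pos.ne'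
  have hdvd : Nat.card K ∣ Nat.card (K ⊓ C : Subgroup G) := by
    rw [← Nat.factorization_prime_le_iff_dvd hK0 hKC0]
    intro q hq
    by_cases hqK : q ∣ Nat.card K
    · obtain ⟨Q, hQ, hQC⟩ := h q hq hqK
      have h1 : Nat.card Q ∣ Nat.card (K ⊓ C : Subgroup G) :=
        Subgroup.card_dvd_of_le (le_inf hQ.1 hQC)
      rw [hQ.2] at h1
      exact (hq.pow_dvd_iff_le_factorization hKC0).mp h1
    · rw [Nat.factorization_eq_zero_of_not_dvd hqK]; exact Nat.zero_le _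
  have hle : Nat.card K ≤ Nat.card (K ⊓ C : Subgroup G) := Nat.le_of_dvd Nat.card_pos hdvd
  have heq : K ⊓ C = K := Subgroup.eq_of_le_of_card_ge inf_le_left hle
  exact inf_eq_left.mp heq

/-- A solvable group `K` with `K = N K'` for a normal subgroup `N` equals `N`. -/
theorem le_of_isSolvable_of_le_sup_commutator {N K : Subgroup G} (hNK : N ≤ K)
    (hnorm : K ≤ Subgroup.normalizer (N : Set G)) (hsolv : Group.IsSolvable K)
    (h : K ≤ N ⊔ ⁅K, K⁆) : K ≤ N := by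
  haveI : (N.subgroupOf K).Normal := (Subgroup.normal_subgroupOf_iff_le_normalizer hNK).mpr hnorm
  haveI := hsolv
  by_contra hcon
  obtain ⟨k, hkK, hkN⟩ := SetLike.not_le_iff_exists.mp hcon
  haveI hnt : Nontrivial (↥K ⧸ N.subgroupOf K) :=
    ⟨⟨(QuotientGroup.mk ⟨k, hkK⟩ : ↥K ⧸ N.subgroupOf K), 1, fun h0 =>
      hkN (Subgroup.mem_subgroupOf.mp ((QuotientGroup.eq_one_iff _).mp h0))⟩⟩
  have hlt := IsSolvable.commutator_lt_top_of_nontrivial (↥K ⧸ N.subgroupOf K)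
  apply hlt.ne
  rw [eq_top_iff]
  intro x _
  obtain ⟨y, rfl⟩ := QuotientGroup.mk_surjective x
  have hy : (y : G) ∈ N ⊔ ⁅K, K⁆ := h y.2
  have hcn : ⁅K, K⁆ ≤ Subgroup.normalizer (N : Set G) :=
    (Subgroup.commutator_le_self K).trans hnorm
  obtain ⟨n, hn, c, hc, hyc⟩ :=
    Cfsg.Agent.Lib.Helper47.BG.exists_mul_of_mem_sup_of_normalizes hcn hy
  rw [← Subgroup.map_subtype_commutator] at hc
  obtain ⟨c', hc', hcc⟩ := hc
  have hnK : n ∈ K := hNK hn
  have hyeq : y = ⟨n, hnK⟩ * c' := Subtype.ext (by rw [hyc, ← hcc]; rfl)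
  have hmk : (QuotientGroup.mk y : ↥K ⧸ N.subgroupOf K) = QuotientGroup.mk c' := by
    rw [hyeq, QuotientGroup.mk_mul]
    have : (QuotientGroup.mk (⟨n, hnK⟩ : ↥K) : ↥K ⧸ N.subgroupOf K) = 1 :=
      (QuotientGroup.eq_one_iff _).mpr (Subgroup.mem_subgroupOf.mpr hn)
    rw [this, one_mul]
  rw [hmk]
  have hmap : (commutator ↥K).map (QuotientGroup.mk' (N.subgroupOf K)) ≤
      commutator (↥K ⧸ N.subgroupOf K) := by
    rw [commutator_def, commutator_def, Subgroup.map_commutator]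
    exact Subgroup.commutator_mono le_top le_top
  exact hmap ⟨c', hc', rfl⟩

/-- `E = E₃ E₁` when `E₃`, `E₁` are Hall `π₃`-, `π₁`-subgroups and every prime divisor of `|E|`
lies in `π₁ ∪ π₃`. -/
theorem le_sup_of_isPiHallOf [Finite G] {π₁ π₃ : Set ℕ} {E E₁ E₃ : Subgroup G}
    (h3 : IsPiHallOf π₃ E₃ E) (h1 : IsPiHallOf π₁ E₁ E)
    (hall : ∀ p : ℕ, p.Prime → p ∣ Nat.card E → p ∈ π₁ ∨ p ∈ π₃) : E ≤ E₃ ⊔ E₁ := by
  rw [← Subgroup.relIndex_eq_one]
  by_contra hne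
  obtain ⟨p, hp, hpd⟩ := Nat.exists_prime_and_dvd hne
  have hpE : p ∣ Nat.card E := hpd.trans (Subgroup.relIndex_dvd_card _ _)
  rcases hall p hp hpE with hp1 | hp3
  · exact h1.2.2 p hp hp1 (hpd.trans (Subgroup.relIndex_dvd_of_le_left E le_sup_right))
  · exact h3.2.2 p hp hp3 (hpd.trans (Subgroup.relIndex_dvd_of_le_left E le_sup_left))

/-- A subgroup `D` of `M` meeting the normal subgroup `N` trivially and contained in `K`, where
the image of `K` in `M / N` is nilpotent, is nilpotent. -/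
theorem isNilpotent_of_inf_eq_bot {M : Type*} [Group M] (N : Subgroup M) [N.Normal]
    (K D : Subgroup M) (hnil : Group.IsNilpotent ↥(K.map (QuotientGroup.mk' N)))
    (hDK : D ≤ K) (hDN : D ⊓ N = ⊥) : Group.IsNilpotent ↥D := by
  let f : ↥D →* ↥(K.map (QuotientGroup.mk' N)) :=
    { toFun := fun d => ⟨QuotientGroup.mk' N (d : M), ⟨(d : M), hDK d.2, rfl⟩⟩
      map_one' := by apply Subtype.ext; simp
      map_mul' := by intro a b; apply Subtype.ext; simp }
  have hker : f.ker = ⊥ := by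
    rw [eq_bot_iff]
    intro d hd
    rw [MonoidHom.mem_ker] at hd
    have h1 : QuotientGroup.mk' N (d : M) = 1 := congrArg Subtype.val hd
    have h2 : (d : M) ∈ N := (QuotientGroup.eq_one_iff _).mp h1
    have h3 : (d : M) ∈ (D ⊓ N : Subgroup M) := ⟨d.2, h2⟩
    rw [hDN, Subgroup.mem_bot] at h3
    rw [Subgroup.mem_bot]
    exact Subtype.ext h3
  haveI := hnil
  exact Subgroup.isNilpotent_of_ker_le_center f (hker ▸ bot_le)

/-- If `K = N D` with `N` normalized by `K` and `D` abelian, then `K' ≤ N`. -/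
theorem commutator_le_of_factor {N D K : Subgroup G}
    (hnorm : K ≤ Subgroup.normalizer (N : Set G)) (hDK : D ≤ K)
    (hfact : ∀ s ∈ K, ∃ a ∈ N, ∃ d ∈ D, s = a * d)
    (hD : ∀ a ∈ D, ∀ b ∈ D, a * b = b * a) : ⁅K, K⁆ ≤ N := by
  rw [Subgroup.commutator_le]
  intro g₁ hg₁ g₂ hg₂
  obtain ⟨a₁, ha₁, d₁, hd₁, rfl⟩ := hfact g₁ hg₁
  obtain ⟨a₂, ha₂, d₂, hd₂, rfl⟩ := hfact g₂ hg₂
  have hconj : ∀ d ∈ D, ∀ a ∈ N, d * a * d⁻¹ ∈ N := fun d hd a ha =>
    (Subgroup.mem_normalizer_iff.mp (hnorm (hDK hd)) a).mp ha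
  have e : ⁅a₁ * d₁, a₂ * d₂⁆ =
      a₁ * (d₁ * a₂ * d₁⁻¹) * (d₁ * d₂ * d₁⁻¹ * d₂⁻¹) * (d₂ * a₁⁻¹ * d₂⁻¹) * a₂⁻¹ := by
    rw [commutatorElement_def]; group
  have e2 : d₁ * d₂ * d₁⁻¹ * d₂⁻¹ = 1 := by
    rw [hD d₁ hd₁ d₂ hd₂]; group
  rw [e, e2, mul_one]
  exact N.mul_mem (N.mul_mem (N.mul_mem ha₁ (hconj d₁ hd₁ a₂ ha₂))
    (hconj d₂ hd₂ a₁⁻¹ (N.inv_mem ha₁))) (N.inv_mem ha₂)

end Cfsg.Agent.Lib.Helper34.BG
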